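import Cfsg.Agent.Lib.PGroups.ZC.TwoGroup
import Cfsg.Agent.Lib.PGroups.Omega
import Cfsg.Agent.Lib.Signalizer.SolvableCentCores
import Cfsg.Prelude.Def_BaumannBlocks

/-!
Owner: helper14. The setting of S3759: solvable involution centralisers and `C(Ω₁(Z(S))) ≤ N(S)`.
All elementary subgroups of order eight of a 2-subgroup have the same closure of cores.
-/

set_option autoImplicit false
set_option linter.style.haveILetI false
set_option linter.unusedSectionVars false

namespace CfsgLib.PGroups.ZC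

open Subgroup CfsgLib.Bender.Dichotomy CfsgLib.Signalizer

universe u

variable {G : Type u} [Group G] [Finite G]

/-- `Ω₁(Z(S))`. -/
abbrev zOne (S : Sylow 2 G) : Subgroup G := Cfsg.omegaOneCenter 2 (S : Subgroup G)

/-- The hypotheses at a fixed Sylow 2-subgroup. -/
structure Setting (S : Sylow 2 G) : Prop where
  sol : ∀ t : G, orderOf t = 2 → Group.IsSolvable ↥(centralizer ({t} : Set G))
  zn : centralizer (zOne S : Set G) ≤ normalizer ((S : Subgroup G) : Set G)

theorem mem_zOne {S : Sylow 2 G} {x : G} :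
    x ∈ zOne S ↔ x ∈ (S : Subgroup G) ∧ (∀ s ∈ (S : Subgroup G), s * x = x * s) ∧ x * x = 1 := by
  haveI : IsMulCommutative ↥((S : Subgroup G) ⊓ centralizer ((S : Subgroup G) : Set G)) :=
    ⟨⟨fun a b => Subtype.ext (mem_centralizer_iff.mp b.2.2 a a.2.1)⟩⟩
  rw [zOne, Cfsg.omegaOneCenter, CfsgLib.PGroups.mem_omegaOne_iff_of_comm, mem_inf,
    mem_centralizer_iff, pow_two]
  exact and_assoc

theorem zOne_le (S : Sylow 2 G) : zOne S ≤ (S : Subgroup G) := fun _ hx => (mem_zOne.mp hx).1

theorem zOne_elem (S : Sylow 2 G) : Cfsg.IsElementaryAbelian 2 (zOne S) :=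
  elem_of_sq fun _ hx => (mem_zOne.mp hx).2.2

theorem sylow_le_centralizer (S : Sylow 2 G) : (S : Subgroup G) ≤ centralizer (zOne S : Set G) :=
  fun s hs => mem_centralizer_iff.mpr fun _ hz => ((mem_zOne.mp hz).2.1 s hs).symm

theorem conj_commute {g a b : G} (h : a * b = b * a) :
    g * a * g⁻¹ * (g * b * g⁻¹) = g * b * g⁻¹ * (g * a * g⁻¹) :=
  ((show Commute a b from h).map (MulAut.conj g).toMonoidHom).eq

theorem core2_le_oC (x : G) : core2 x = CfsgLib.Classical.TwoType.oC x := rfl

theorem core2_le_normalizer (x : G) : centralizer ({x} : Set G) ≤ normalizer (core2 x : Set G) :=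
  CfsgLib.Classical.TwoType.le_normalizer_oC x

namespace Setting

variable {S : Sylow 2 G} (hs : Setting S)
include hs

theorem balance {x y : G} (hx : orderOf x = 2) (hy : orderOf y = 2) (hxy : x * y = y * x) :
    core2 x ⊓ centralizer ({y} : Set G) ≤ core2 y :=
  CoresGen.balance_two (k := 1) (by rw [hx, pow_one])
    (haveI := hs.sol y hy; SolvCores.isPConstrained_of_solvable) hxy

theorem functor {E : Subgroup G} (hE : Eight E) :
    Cfsg.IsSolvableSignalizerFunctor 2 E (fun x => core2 x) :=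
  Gen.solvable_functor_of_equivariant
    (fun a _ => ⟨core2_le a,
      fun hd => Nat.not_even_iff_odd.mpr (odd_core2 a) (even_iff_two_dvd.mpr hd),
      Cfsg.Agent.S0205.result (odd_core2 a)⟩)
    (fun a g _ => core2_conj a g)
    (fun _ _ ha hb hab => hs.balance ha.1 hb.1 hab) hE.1 hE.2

theorem clo_eq_of_le {E F : Subgroup G} (hE : Eight E) (hFE : F ≤ E) (hF : 4 ≤ Nat.card F) :
    clo F = clo E :=
  (Gen.closure_eq_of_le hE.1 hE.2 (hs.functor hE) hFE hF).1

theorem odd_clo {E : Subgroup G} (hE : Eight E) : Odd (Nat.card ↥(clo E)) :=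
  Nat.not_even_iff_odd.mp fun he => Solv.fam_not_dvd
    (Gen.closure_eq_of_le hE.1 hE.2 (hs.functor hE) (le_refl E)
      (le_trans (by norm_num : (2 : ℕ) ^ 2 ≤ 8) hE.2)).2 (even_iff_two_dvd.mp he)

/-- All elementary subgroups of order eight of a 2-group have the same closure. -/
theorem clo_eq {P E F : Subgroup G} (hP : IsPGroup 2 P) (hE : Eight E) (hEP : E ≤ P) (hF : Eight F)
    (hFP : F ≤ P) : clo E = clo F := by
  obtain ⟨U, -, hU, hU4, -, hUi⟩ := exists_normalFour hP hE hEP
  have hover : ∀ D : Subgroup G, Eight D → D ≤ P → clo D = clo U := fun D hD hDP => by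
    set A := D ⊓ centralizer (U : Set G)
    have hA4 : 4 ≤ Nat.card A := four_le_inf hUi hD hDP
    have hel := Gen.elementary_sup hU (elementary_of_le hD.1 (inf_le_left : A ≤ D)) inf_le_right
    by_cases hUA : A ≤ U
    · have hAU : A = U := eq_of_le_of_card_ge hUA (by omega)
      exact (hs.clo_eq_of_le hD (hAU.ge.trans inf_le_left) hU4.ge).symm
    · have h8 := eight_of_lt hel (lt_of_le_not_ge le_sup_left fun hle => hUA (le_sup_right.trans hle))
        hU4.ge
      rw [← hs.clo_eq_of_le hD (inf_le_left : A ≤ D) hA4, hs.clo_eq_of_le h8 le_sup_right hA4,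
        hs.clo_eq_of_le h8 le_sup_left hU4.ge]
  rw [hover E hE hEP, hover F hF hFP]

/-- A 2-subgroup normalising `S` lies in `S`. -/
theorem le_of_le_normalizer {Q : Subgroup G} (hQ : IsPGroup 2 Q)
    (h : Q ≤ normalizer ((S : Subgroup G) : Set G)) : Q ≤ (S : Subgroup G) := by
  have h2 : IsPGroup 2 ↥(Q ⊔ (S : Subgroup G)) := hQ.to_sup_of_normal_right' S.isPGroup' h
  exact le_sup_left.trans (S.is_maximal' h2 le_sup_right).le

/-- A 2-subgroup centralising a conjugate of `Z` lies in the conjugate of `S`. -/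
theorem two_le_cj {Q : Subgroup G} (hQ : IsPGroup 2 Q) {g : G}
    (h : ∀ q ∈ Q, ∀ z ∈ zOne S, q * (g * z * g⁻¹) = g * z * g⁻¹ * q) : Q ≤ cj g (S : Subgroup G) := by
  have h1 : cj g⁻¹ Q ≤ (S : Subgroup G) := by
    refine hs.le_of_le_normalizer (hQ.map _) fun y hy => hs.zn (mem_centralizer_iff.mpr fun z hz => ?_)
    obtain ⟨q, hq, rfl⟩ := hy
    have e := conj_commute (g := g⁻¹) (h q hq z hz)
    rw [inv_inv, show g⁻¹ * (g * z * g⁻¹) * g = z by group] at e
    show z * (g⁻¹ * q * g⁻¹⁻¹) = g⁻¹ * q * g⁻¹⁻¹ * z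
    rw [inv_inv]
    exact e.symm
  have h2 := cj_mono (g := g) h1
  rwa [cj_cj, mul_inv_cancel, cj_one] at h2

/-- An element centralising `Z` normalises `S`. -/
theorem normalizer_mem {c : G} (h : ∀ z ∈ zOne S, c * z = z * c) :
    c ∈ normalizer ((S : Subgroup G) : Set G) :=
  hs.zn (mem_centralizer_iff.mpr fun z hz => (h z hz).symm)

end Setting

end CfsgLib.PGroups.ZC
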