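import Cfsg.Agent.Lib.PGroups.ZC.Engine
import Cfsg.Agent.Lib.Transfer.ThompsonTransfer
import Cfsg.Agent.Lib.Invol.AschCrit.Dep.Tight

/-!
Owner: helper14. Common facts for S3759: `Ω₁(Z(S))` meets `O²(G)`, transfer into a subgroup of index two,
and involutions centralising each other.
-/

set_option autoImplicit false
set_option linter.style.haveILetI false
set_option linter.unusedSectionVars false

namespace CfsgLib.PGroups.ZC

open Subgroup CfsgLib.Bender.Dichotomy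

universe u

variable {G : Type u} [Group G] [Finite G]

/-- Standing hypotheses of the case analysis. -/
structure Hyp (S : Sylow 2 G) : Prop extends Setting S where
  core : Cfsg.pPrimeCore 2 G = ⊥
  res : (S : Subgroup G) ⊓ Cfsg.pResidual 2 G ≠ ⊥

/-- `Z` has order two, generated by `z`. -/
structure TwoAt (S : Sylow 2 G) (z : G) : Prop where
  ord : orderOf z = 2
  mem : z ∈ zOne S
  only : ∀ w ∈ zOne S, w = 1 ∨ w = z

namespace TwoAt

variable {S : Sylow 2 G} {z : G} (h : TwoAt S z)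
include h

theorem mem_sylow : z ∈ (S : Subgroup G) := zOne_le S h.mem

theorem central {s : G} (hs : s ∈ (S : Subgroup G)) : s * z = z * s := (mem_zOne.mp h.mem).2.1 s hs

theorem eq_of_central {w : G} (hw : w ∈ (S : Subgroup G)) (hc : ∀ s ∈ (S : Subgroup G), s * w = w * s)
    (hw2 : orderOf w = 2) : w = z :=
  (h.only w (mem_zOne.mpr ⟨hw, hc, sq_of_orderOf_two hw2⟩)).resolve_left (ne_one_of_orderOf_two hw2)

theorem cj_zOne_le {g : G} {K : Subgroup G} (hg : g * z * g⁻¹ ∈ K) : cj g (zOne S) ≤ K :=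
  cj_le_iff.mpr fun w hw => by
    rcases h.only w hw with rfl | rfl
    · simp
    · exact hg

theorem two_le_cj (hs : Setting S) {Q : Subgroup G} (hQ : IsPGroup 2 Q) {g : G}
    (hc : ∀ q ∈ Q, q * (g * z * g⁻¹) = g * z * g⁻¹ * q) : Q ≤ cj g (S : Subgroup G) :=
  hs.two_le_cj hQ fun q hq w hw => by
    rcases h.only w hw with rfl | rfl
    · simp
    · exact hc q hq

/-- A conjugate of `z` in `S` makes the conjugation symmetric. -/
theorem symm (hs : Setting S) {g : G} (hg : g * z * g⁻¹ ∈ (S : Subgroup G)) :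
    g⁻¹ * z * g ∈ (S : Subgroup G) := by
  have hle := h.two_le_cj hs (Q := zpowers z) (g := g)
    (IsPGroup.of_card (n := 1) (by rw [Nat.card_zpowers, h.ord, pow_one])) fun q hq => by
      obtain ⟨j, rfl⟩ := mem_zpowers_iff.mp hq
      exact ((show Commute z (g * z * g⁻¹) from (h.central hg).symm).zpow_left j).eq
  exact mem_cj.mp (hle (mem_zpowers z))

end TwoAt

/-- An involution of `S` outside a subgroup `K` with `|S : S ∩ K| ≤ 2`, in `O²(G)`, is conjugate into `S ∩ K`. -/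
theorem exists_conj_into (S : Sylow 2 G) {K : Subgroup G} (hK : K.relIndex (S : Subgroup G) ≤ 2) {x : G}
    (hxS : x ∈ (S : Subgroup G)) (hxK : x ∉ K) (hxH : x ∈ Cfsg.pResidual 2 G) (hx2 : orderOf x = 2) :
    ∃ g : G, g * x * g⁻¹ ∈ (S : Subgroup G) ∧ g * x * g⁻¹ ∈ K := by
  have h0 : K.relIndex (S : Subgroup G) ≠ 0 := Subgroup.index_ne_zero_of_finite
  have h1 : K.relIndex (S : Subgroup G) ≠ 1 := fun e => hxK (relIndex_eq_one.mp e hxS)
  have hi : ((S : Subgroup G) ⊓ K).relIndex (S : Subgroup G) = 2 := by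
    rw [inf_relIndex_left]; omega
  rcases CfsgLib.Transfer.thompson_transfer S _ hi hx2 with ⟨M, hMn, hMi, hxM⟩ | ⟨g, hg⟩
  · refine absurd ?_ hxM
    refine (CfsgLib.Transfer.pResidual_le_iff.mpr fun y hy => ?_) hxH
    have hsq : y ^ 2 ∈ M := Subgroup.sq_mem_of_index_two hMi y
    have hodd : Odd (orderOf y) := Nat.coprime_two_right.mp hy
    obtain ⟨k, hk⟩ := hodd
    have : y = ((y ^ 2) ^ k)⁻¹ := eq_inv_of_mul_eq_one_left (by
      rw [← pow_mul, ← pow_succ', ← hk, pow_orderOf_eq_one])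
    rw [this]
    exact M.inv_mem (M.pow_mem hsq k)
  · exact ⟨g, hg⟩

theorem zOne_inf_ne_bot {S : Sylow 2 G} {N : Subgroup G} [N.Normal] (h : (S : Subgroup G) ⊓ N ≠ ⊥) :
    ∃ w ∈ zOne S, w ∈ N ∧ orderOf w = 2 := by
  obtain ⟨v, hv, hv1⟩ : ∃ v ∈ (S : Subgroup G) ⊓ N, v ≠ 1 := by
    by_contra hno
    push Not at hno
    exact h ((eq_bot_iff_forall _).mpr hno)
  obtain ⟨q, hq, hq2⟩ := exists_involution_pow S.isPGroup' hv.1 hv1
  have hqm : q ∈ (S : Subgroup G) ⊓ N := zpowers_le.mpr hv hq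
  obtain ⟨w, hwN, hwS, hw2, hwc⟩ := CfsgLib.AschCrit.exists_central_involution S.isPGroup'
    ((le_top : (S : Subgroup G) ≤ ⊤).trans (normalizer_eq_top N).ge) hqm.2 hqm.1 hq2
  exact ⟨w, mem_zOne.mpr ⟨hwS, fun s hs => (hwc s hs).eq, sq_of_orderOf_two hw2⟩, hwN, hw2⟩

/-- `Z` has order two, or order at least four. -/
theorem twoAt_or_four {S : Sylow 2 G} (h : Hyp S) :
    (∃ z, TwoAt S z ∧ z ∈ Cfsg.pResidual 2 G) ∨ 4 ≤ Nat.card ↥(zOne S) := by
  haveI : (Cfsg.pResidual 2 G).Normal := CfsgLib.Transfer.pResidual_normal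
  obtain ⟨z, hz, hzH, hz2⟩ := zOne_inf_ne_bot h.res
  by_cases hex : ∃ w ∈ zOne S, w ≠ 1 ∧ w ≠ z
  · obtain ⟨w, hw, hw1, hwz⟩ := hex
    obtain ⟨-, h4⟩ := four_of_pair hz2 (orderOf_two (elem_sq (zOne_elem S) hw) hw1) (Ne.symm hwz)
      ((mem_zOne.mp hw).2.1 z (zOne_le S hz))
    exact Or.inr (h4.trans (card_le_of_le (sup_le (zpowers_le.mpr hz) (zpowers_le.mpr hw))))
  · refine Or.inl ⟨z, ⟨hz2, hz, fun w hw => ?_⟩, hzH⟩
    by_contra hne
    rw [not_or] at hne
    exact hex ⟨w, hw, hne⟩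

/-- An element of a subgroup which commutes with an elementary group and lies outside enlarges it. -/
theorem eight_of_four {A : Subgroup G} {x : G} (hA : Cfsg.IsElementaryAbelian 2 A) (h4 : 4 ≤ Nat.card A)
    (hx2 : orderOf x = 2) (hc : ∀ a ∈ A, a * x = x * a) (hxA : x ∉ A) {P : Subgroup G} (hAP : A ≤ P)
    (hxP : x ∈ P) : ∃ F, Eight F ∧ F ≤ P ∧ x ∈ F ∧ A ≤ F :=
  ⟨_, eight_sup_zpowers hA h4 (sq_of_orderOf_two hx2) hc hxA, sup_le hAP (zpowers_le.mpr hxP),
    mem_sup_right (mem_zpowers x), le_sup_left⟩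

/-- An elementary subgroup centralises its members. -/
theorem le_centralizer_of_mem {F : Subgroup G} (hF : Cfsg.IsElementaryAbelian 2 F) {x : G} (hx : x ∈ F) :
    F ≤ centralizer ({x} : Set G) := fun y hy => mem_centralizer_singleton_iff.mpr
  (congrArg Subtype.val (hF.1.is_comm.comm (⟨y, hy⟩ : F) ⟨x, hx⟩))

end CfsgLib.PGroups.ZC
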