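import Cfsg.Agent.Lib.PGroups.ZC.Common

/-!
Owner: helper14. When `S` has an elementary subgroup of order eight, the closure of the cores along any of
them covers the cores of the involutions of `S` in `O²(G) Z`.
-/

set_option autoImplicit false
set_option linter.style.haveILetI false
set_option linter.unusedSectionVars false

namespace CfsgLib.PGroups.ZC

open Subgroup CfsgLib.Bender.Dichotomy

universe u

variable {G : Type u} [Group G] [Finite G]

/-- An involution of `S` centralising a normal four-group lies in an elementary subgroup of order eight. -/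
theorem exists_eight_mem {S U E : Subgroup G} (hU : Cfsg.IsElementaryAbelian 2 U) (hU4 : Nat.card U = 4)
    (hUS : U ≤ S) (hUi : (centralizer (U : Set G)).relIndex S ≤ 2) (hE : Eight E) (hES : E ≤ S) {x : G}
    (hxS : x ∈ S) (hx2 : orderOf x = 2) (hxU : x ∈ centralizer (U : Set G)) :
    ∃ F, Eight F ∧ F ≤ S ∧ x ∈ F := by
  by_cases hxm : x ∈ U
  · set A := E ⊓ centralizer (U : Set G)
    have hA4 : 4 ≤ Nat.card A := four_le_inf hUi hE hES
    have hel := Signalizer.Gen.elementary_sup hU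
      (Signalizer.elementary_of_le hE.1 (inf_le_left : A ≤ E)) inf_le_right
    by_cases hUA : A ≤ U
    · exact ⟨E, hE, hES, (eq_of_le_of_card_ge hUA (by omega) ▸ hxm : x ∈ A).1⟩
    · exact ⟨U ⊔ A, eight_of_lt hel (lt_of_le_not_ge le_sup_left fun hle => hUA (le_sup_right.trans hle))
        hU4.ge, sup_le hUS (inf_le_left.trans hES), mem_sup_left hxm⟩
  · obtain ⟨F, hF, hFS, hxF, -⟩ := eight_of_four hU hU4.ge hx2 (mem_centralizer_iff.mp hxU) hxm hUS hxS
    exact ⟨F, hF, hFS, hxF⟩

variable {S : Sylow 2 G} (h : Hyp S) {E : Subgroup G} (hE : Eight E) (hES : E ≤ (S : Subgroup G))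
include h hE hES

/-- A conjugate of `z` in `S` centralises an elementary subgroup of order eight of `S`. -/
theorem exists_eight_conj {z : G} (hz : TwoAt S z) {g : G} (hg : g * z * g⁻¹ ∈ (S : Subgroup G)) :
    ∃ F, Eight F ∧ F ≤ (S : Subgroup G) ∧ ∀ f ∈ F, f * (g * z * g⁻¹) = g * z * g⁻¹ * f := by
  by_contra hno
  obtain ⟨U, hUS, hU, hU4, -, hUi⟩ := exists_normalFour S.isPGroup' hE hES
  set y := g * z * g⁻¹ with hy
  have hy2 : orderOf y = 2 := (CfsgLib.Signalizer.orderOf_conj g z).trans hz.ord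
  have hyz : y ≠ z := fun e => hno ⟨E, hE, hES, fun f hf => by rw [e]; exact hz.central (hES hf)⟩
  -- the same for the reverse conjugation
  have hy'S := hz.symm h.toSetting hg
  have hno' : ¬ ∃ F, Eight F ∧ F ≤ (S : Subgroup G) ∧
      ∀ f ∈ F, f * (g⁻¹ * z * g) = g⁻¹ * z * g * f := by
    rintro ⟨F, hF, hFS, hFc⟩
    refine hno ⟨cj g F, cj_eight hF, ?_, ?_⟩
    · have h1 := hz.two_le_cj h.toSetting ((S.isPGroup'.to_le hFS).map (MulAut.conj g).toMonoidHom) (g := 1)
        (fun q hq => by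
          obtain ⟨f, hf, rfl⟩ := hq
          have e := conj_commute (g := g) (hFc f hf)
          rw [show g * (g⁻¹ * z * g) * g⁻¹ = 1 * z * 1⁻¹ by group] at e
          exact e)
      rwa [cj_one] at h1
    · rintro _ ⟨f, hf, rfl⟩
      exact conj_commute (hz.central (hFS hf))
  have main : ∀ w : G, w ∈ (S : Subgroup G) → orderOf w = 2 → w ≠ z →
      (¬ ∃ F, Eight F ∧ F ≤ (S : Subgroup G) ∧ ∀ f ∈ F, f * w = w * f) →
      ∀ c ∈ (S : Subgroup G) ⊓ centralizer ({w} : Set G), c * c ≠ 1 → z ∈ zpowers (c * c) := by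
    intro w hwS hw2 hwz hnw c hc hc2
    refine mem_zpowers_sq S.isPGroup' inf_le_left hUi (fun v hv hvK hv2 => ?_) hc hc2
    by_contra hvz
    have hwK : w ∉ centralizer (U : Set G) := fun hwK => by
      obtain ⟨F, hF, hFS, hwF⟩ := exists_eight_mem hU hU4 hUS hUi hE hES hwS hw2 hwK
      exact hnw ⟨F, hF, hFS, fun f hf => mem_centralizer_singleton_iff.mp (le_centralizer_of_mem hF.1 hwF hf)⟩
    have hzK : z ∈ centralizer (U : Set G) := mem_centralizer_iff.mpr fun u hu => hz.central (hUS hu)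
    obtain ⟨hA, hA4⟩ := four_of_pair hz.ord hv2 (Ne.symm hvz) (hz.central hv.1).symm
    have hAK : zpowers z ⊔ zpowers v ≤ centralizer (U : Set G) :=
      sup_le (zpowers_le.mpr hzK) (zpowers_le.mpr hvK)
    have hAw : zpowers z ⊔ zpowers v ≤ centralizer ({w} : Set G) := sup_le
      (zpowers_le.mpr (mem_centralizer_singleton_iff.mpr (hz.central hwS).symm)) (zpowers_le.mpr hv.2)
    obtain ⟨F, hF, hFS, hwF, -⟩ := eight_of_four hA hA4 hw2
      (fun a ha => mem_centralizer_singleton_iff.mp (hAw ha)) (fun e => hwK (hAK e))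
      (sup_le (zpowers_le.mpr hz.mem_sylow) (zpowers_le.mpr hv.1)) hwS
    exact hnw ⟨F, hF, hFS, fun f hf => mem_centralizer_singleton_iff.mp (le_centralizer_of_mem hF.1 hwF hf)⟩
  have hexp : ∀ c ∈ (S : Subgroup G) ⊓ centralizer ({y} : Set G), c * c = 1 := by
    intro c hc
    by_contra hc2
    have h1 := main y hg hy2 hyz hno c hc hc2
    have hy'2 : orderOf (g⁻¹ * z * g) = 2 := by
      have := CfsgLib.Signalizer.orderOf_conj g⁻¹ z
      rw [inv_inv] at this
      exact this.trans hz.ord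
    have hy'z : g⁻¹ * z * g ≠ z := fun e => hyz (by
      rw [hy]
      calc g * z * g⁻¹ = g * (g⁻¹ * z * g) * g⁻¹ := by rw [e]
        _ = z := by group)
    have hc' : g⁻¹ * c * g ∈ (S : Subgroup G) := by
      refine mem_cj.mp (hz.two_le_cj h.toSetting
        ((S.isPGroup'.to_le (zpowers_le.mpr hc.1))) (fun q hq => ?_) (mem_zpowers c))
      obtain ⟨j, rfl⟩ := mem_zpowers_iff.mp hq
      exact ((show Commute c y from mem_centralizer_singleton_iff.mp hc.2).zpow_left j).eq
    have h2 := main (g⁻¹ * z * g) hy'S hy'2 hy'z hno' (g⁻¹ * c * g)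
      ⟨hc', mem_centralizer_singleton_iff.mpr (by
        have := conj_commute (g := g⁻¹) (hz.central hc.1)
        rwa [inv_inv] at this)⟩ (fun e => hc2 (by
          calc c * c = g * (g⁻¹ * c * g * (g⁻¹ * c * g)) * g⁻¹ := by group
            _ = 1 := by rw [e]; group))
    obtain ⟨j, hj⟩ := mem_zpowers_iff.mp h2
    have h3 : y ∈ zpowers (c * c) := mem_zpowers_iff.mpr ⟨j, by
      rw [hy, ← hj, show g⁻¹ * c * g * (g⁻¹ * c * g) = MulAut.conj g⁻¹ (c * c) by
        simp only [MulAut.conj_apply]; group, ← map_zpow, MulAut.conj_apply]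
      group⟩
    exact hyz (cyclic_inv_unique h3 h1 hy2 hz.ord)
  have h8 : ¬ ∃ F, Eight F ∧ F ≤ (S : Subgroup G) ⊓ centralizer ({y} : Set G) := fun ⟨F, hF, hFle⟩ =>
    hno ⟨F, hF, hFle.trans inf_le_left, fun f hf => mem_centralizer_singleton_iff.mp (hFle hf).2⟩
  obtain ⟨X, hX, -, hXi⟩ := exists_cyclic_of_elem_cent S.isPGroup' hz.mem_sylow
    (fun s hs => hz.central hs) hg hz.ord hy2 (Ne.symm hyz) hexp h8
  exact not_eight_of_cyclic hXi hE hES

/-- The closure of the cores along `E` is a cover. -/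
theorem cover_eight : Cover S (clo E) (Cfsg.pResidual 2 G ⊔ zOne S) := by
  have hs := h.toSetting
  have hall : ∀ F : Subgroup G, Eight F → F ≤ (S : Subgroup G) → clo F = clo E := fun F hF hFS =>
    hs.clo_eq S.isPGroup' hF hFS hE hES
  obtain ⟨U, hUS, hU, hU4, -, hUi⟩ := exists_normalFour S.isPGroup' hE hES
  refine ⟨hs.odd_clo hE, fun s hs' => mem_normalizer_of_cj ?_, fun g hg => ?_, fun x hxS hxN hx2 => ?_⟩
  · rw [← clo_cj]
    exact hall _ (cj_eight hE) (cj_le_iff.mpr fun y hy =>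
      mul_mem (mul_mem hs' (hES hy)) (inv_mem hs'))
  · obtain ⟨F, hF, hFS, hFc⟩ : ∃ F, Eight F ∧ F ≤ (S : Subgroup G) ∧
        ∀ f ∈ F, ∀ z ∈ zOne S, f * (g * z * g⁻¹) = g * z * g⁻¹ * f := by
      rcases twoAt_or_four h with ⟨z, hz, -⟩ | h4
      · obtain ⟨F, hF, hFS, hFc⟩ := exists_eight_conj h hE hES hz (hg (conj_mem_cj hz.mem))
        exact ⟨F, hF, hFS, fun f hf w hw => by
          rcases hz.only w hw with rfl | rfl
          · simp
          · exact hFc f hf⟩
      · by_cases hle : cj g (zOne S) ≤ zOne S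
        · exact ⟨E, hE, hES, fun f hf w hw => (mem_zOne.mp (hle (conj_mem_cj hw))).2.1 f (hES hf)⟩
        · obtain ⟨a, ha, haZ⟩ := SetLike.not_le_iff_exists.mp hle
          have ha2 : orderOf a = 2 :=
            orderOf_two (elem_sq (cj_elem (zOne_elem S)) ha) fun e => haZ (e ▸ one_mem _)
          refine ⟨zOne S ⊔ zpowers a, eight_sup_zpowers (zOne_elem S) h4 (sq_of_orderOf_two ha2)
            (fun b hb => ((mem_zOne.mp hb).2.1 a (hg ha)).symm) haZ,
            sup_le (zOne_le S) (zpowers_le.mpr (hg ha)), fun f hf w hw => ?_⟩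
          have hcent : zOne S ⊔ zpowers a ≤ centralizer ({g * w * g⁻¹} : Set G) := sup_le
            (fun b hb => mem_centralizer_singleton_iff.mpr
              ((mem_zOne.mp hb).2.1 _ (hg (conj_mem_cj hw))).symm)
            (zpowers_le.mpr (le_centralizer_of_mem (cj_elem (zOne_elem S)) (conj_mem_cj hw) ha))
          exact mem_centralizer_singleton_iff.mp (hcent hf)
    have hFg : cj g⁻¹ F ≤ (S : Subgroup G) := by
      have h1 := cj_mono (g := g⁻¹) (hs.two_le_cj (S.isPGroup'.to_le hFS) hFc)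
      rwa [cj_inv_cancel] at h1
    have h2 := hall _ (cj_eight (g := g⁻¹) hF) hFg
    rw [clo_cj, hall F hF hFS] at h2
    conv_lhs => rw [← h2]
    rw [cj_cj, mul_inv_cancel, cj_one]
  · have key : ∀ y : G, orderOf y = 2 → (∃ F, Eight F ∧ F ≤ (S : Subgroup G) ∧ y ∈ F) →
        core2 y ≤ clo E := fun y hy ⟨F, hF, hFS, hyF⟩ => by
      rw [← hall F hF hFS]
      exact CfsgLib.Signalizer.le_closure hyF (ne_one_of_orderOf_two hy)
    by_cases hxU : x ∈ centralizer (U : Set G)
    · exact ⟨1, by simpa using hxS,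
        by simpa using key x hx2 (exists_eight_mem hU hU4 hUS hUi hE hES hxS hx2 hxU)⟩
    rcases twoAt_or_four h with ⟨z, hz, hzH⟩ | h4
    · have hZH : zOne S ≤ Cfsg.pResidual 2 G := fun w hw => by
        rcases hz.only w hw with rfl | rfl
        exacts [one_mem _, hzH]
      rw [sup_eq_left.mpr hZH] at hxN
      obtain ⟨g, hgS, hgU⟩ := exists_conj_into S hUi hxS hxU hxN hx2
      exact ⟨g, hgS, key _ ((CfsgLib.Signalizer.orderOf_conj g x).trans hx2)
        (exists_eight_mem hU hU4 hUS hUi hE hES hgS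
          ((CfsgLib.Signalizer.orderOf_conj g x).trans hx2) hgU)⟩
    · obtain ⟨F, hF, hFS, hxF, -⟩ := eight_of_four (zOne_elem S) h4 hx2
        (fun a ha => ((mem_zOne.mp ha).2.1 x hxS).symm)
        (fun hxZ => hxU (mem_centralizer_iff.mpr fun u hu => (mem_zOne.mp hxZ).2.1 u (hUS hu)))
        (zOne_le S) hxS
      exact ⟨1, by simpa using hxS, by simpa using key x hx2 ⟨F, hF, hFS, hxF⟩⟩

end CfsgLib.PGroups.ZC
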