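import Cfsg.Agent.Lib.PGroups.ZC.Basic
import Cfsg.Agent.Lib.Transfer.PResidual
import Cfsg.Agent.Lib.Core.Cores
import Cfsg.Agent.Lib.Core.SolvableStruct
import Cfsg.Prelude.Def_Involutions

/-!
Owner: helper14. The normaliser of a cover of the cores contains every involution centraliser it meets, so
it gives a strongly embedded subgroup of `O²(G)` unless the cores are trivial.
-/

set_option autoImplicit false
set_option linter.style.haveILetI false
set_option linter.unusedSectionVars false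

namespace CfsgLib.PGroups.ZC

open Subgroup CfsgLib.Bender.Dichotomy

universe u

variable {G : Type u} [Group G] [Finite G]

theorem smul_sylow_eq (g : G) (S : Sylow 2 G) : ((g • S : Sylow 2 G) : Subgroup G) = cj g (S : Subgroup G) := by
  rw [Sylow.coe_subgroup_smul]; rfl

theorem exists_le_cj (S : Sylow 2 G) {Q : Subgroup G} (hQ : IsPGroup 2 Q) :
    ∃ g : G, Q ≤ cj g (S : Subgroup G) := by
  haveI : Fact (Nat.Prime 2) := ⟨Nat.prime_two⟩
  obtain ⟨T, hT⟩ := hQ.exists_le_sylow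
  obtain ⟨g, hg⟩ := MulAction.exists_smul_eq G S T
  exact ⟨g, by rw [← smul_sylow_eq, hg]; exact hT⟩

/-- A 2-subgroup of a subgroup containing `S` is carried into `S` inside it. -/
theorem exists_cj_le (S : Sylow 2 G) {M Q : Subgroup G} (hM : (S : Subgroup G) ≤ M) (hQ : IsPGroup 2 Q)
    (hQM : Q ≤ M) : ∃ m ∈ M, cj m Q ≤ (S : Subgroup G) := by
  obtain ⟨P, hSP, -, hP, -, hconj⟩ := exists_sylow_in S.isPGroup' hM
  obtain ⟨m, hm, hle⟩ := hconj Q hQM hQ
  exact ⟨m, hm, hle.trans (S.is_maximal' hP hSP).le⟩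

/-- With a solvable centraliser, whatever centralises a Sylow 2-subgroup of it lies in the subgroup
generated by that Sylow subgroup and the core, and so do its conjugates. -/
theorem conj_mem_of_central {C P : Subgroup G} [Group.IsSolvable C] (hPC : P ≤ C) (hP : IsPGroup 2 P)
    (hmax : ∀ Q ≤ C, IsPGroup 2 Q → P ≤ Q → Q = P) {a : G} (ha : a ∈ C)
    (hcom : ∀ p ∈ P, p * a = a * p) {c : G} (hc : c ∈ C) :
    c * a * c⁻¹ ∈ (Cfsg.pPrimeCore 2 C).map C.subtype ⊔ P := by
  haveI : Fact (Nat.Prime 2) := ⟨Nat.prime_two⟩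
  set π := QuotientGroup.mk' (Cfsg.pPrimeCore 2 C) with hπdef
  let T : Sylow 2 C :=
    { toSubgroup := P.subgroupOf C
      isPGroup' := hP.comap_subtype
      is_maximal' := fun {Q} hQ hle => by
        have hQ' : Q.map C.subtype = P := hmax _ (map_subtype_le _) (hQ.map _) fun p hp =>
          ⟨⟨p, hPC hp⟩, hle hp, rfl⟩
        rw [← hQ', subgroupOf, comap_map_eq_self_of_injective C.subtype_injective] }
  have hπ : Function.Surjective π := QuotientGroup.mk'_surjective _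
  haveI : Group.IsSolvable (C ⧸ Cfsg.pPrimeCore 2 C) := Group.isSolvable_of_surjective hπ
  have hcore := CfsgLib.Core.centralizer_pCore_le_of_pPrimeCore_eq_bot (p := 2)
    (CfsgLib.Core.pPrimeCore_quotient_pPrimeCore 2 C)
  have hle : Cfsg.pCore 2 (C ⧸ Cfsg.pPrimeCore 2 C) ≤ (P.subgroupOf C).map π :=
    CfsgLib.Core.pCore_le_sylow (Sylow.mapSurjective hπ T)
  have hmem : π ⟨a, ha⟩ ∈ Cfsg.pCore 2 (C ⧸ Cfsg.pPrimeCore 2 C) := by
    refine hcore (mem_centralizer_iff.mpr fun y hy => ?_)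
    obtain ⟨p, hp, rfl⟩ := hle hy
    rw [← map_mul, ← map_mul]
    exact congrArg π (Subtype.ext (hcom p hp))
  obtain ⟨p, hp, hpe⟩ := hle (Normal.conj_mem inferInstance _ hmem (π ⟨c, hc⟩))
  rw [← map_inv, ← map_mul, ← map_mul] at hpe
  have hd := (QuotientGroup.eq).mp hpe
  have e : c * a * c⁻¹ =
      (p : G) * ((p⁻¹ * (⟨c, hc⟩ * ⟨a, ha⟩ * ⟨c, hc⟩⁻¹) : C) : G) := by
    simp
  rw [e]
  exact mul_mem (mem_sup_right hp) (mem_sup_left ⟨_, hd, rfl⟩)

variable {S : Sylow 2 G} (hs : Setting S)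
include hs

/-- A subgroup with `Z^g ≤ M → g ∈ M` contains the centraliser of an involution whose core it contains. -/
theorem Setting.centralizer_le {M : Subgroup G} (hSM : (S : Subgroup G) ≤ M)
    (hfix : ∀ g : G, cj g (zOne S) ≤ M → g ∈ M) {x : G} (hx : x ∈ (S : Subgroup G)) (hx2 : orderOf x = 2)
    (hcore : core2 x ≤ M) : centralizer ({x} : Set G) ≤ M := by
  intro c hc
  haveI := hs.sol x hx2
  have hR : zOne S ⊔ zpowers x ≤ centralizer ({x} : Set G) := sup_le
    (fun z hz => mem_centralizer_singleton_iff.mpr ((mem_zOne.mp hz).2.1 x hx).symm)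
    (zpowers_le.mpr (mem_centralizer_singleton_iff.mpr rfl))
  obtain ⟨P, hRP, hPC, hP, hmax, -⟩ := exists_sylow_in
    (S.isPGroup'.to_le (sup_le (zOne_le S) (zpowers_le.mpr hx))) hR
  obtain ⟨g, hPg⟩ := exists_le_cj S hP
  have hcen : ∀ q ∈ cj g (S : Subgroup G), ∀ z ∈ zOne S, q * (g * z * g⁻¹) = g * z * g⁻¹ * q := by
    rintro _ ⟨s, hs', rfl⟩ z hz
    exact conj_commute ((mem_zOne.mp hz).2.1 s hs')
  have hgM : g ∈ M := by
    refine hfix g (le_trans ?_ hSM)
    have h := hs.two_le_cj ((S.isPGroup'.to_le (zOne_le S)).map _) (g := 1)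
      (Q := cj g (zOne S)) fun q hq z hz => by
        obtain ⟨w, hw, rfl⟩ := hq
        rw [one_mul, inv_one, mul_one]
        exact (hcen z (hPg (hRP (mem_sup_left hz))) w hw).symm
    rwa [cj_one] at h
  have hPM : P ≤ M := hPg.trans (cj_le_iff.mpr fun y hy =>
    M.mul_mem (M.mul_mem hgM (hSM hy)) (M.inv_mem hgM))
  refine (M.mul_mem_cancel_right hgM).mp (hfix (c * g) (cj_le_iff.mpr fun z hz => ?_))
  have ha : g * z * g⁻¹ ∈ centralizer ({x} : Set G) :=
    mem_centralizer_singleton_iff.mpr (hcen x (hPg (hRP (mem_sup_right (mem_zpowers x)))) z hz).symm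
  have h := conj_mem_of_central hPC hP hmax ha (fun p hp => hcen p (hPg hp) z hz) hc
  rw [show c * g * z * (c * g)⁻¹ = c * (g * z * g⁻¹) * c⁻¹ by group]
  exact (sup_le hcore hPM : core2 x ⊔ P ≤ M) h

/-- A cover of the cores of the involutions of `S ∩ N`. -/
structure Cover (S : Sylow 2 G) (W N : Subgroup G) : Prop where
  odd : Odd (Nat.card W)
  norm : (S : Subgroup G) ≤ normalizer (W : Set G)
  fix : ∀ g : G, cj g (zOne S) ≤ (S : Subgroup G) → cj g W = W
  cover : ∀ x ∈ (S : Subgroup G), x ∈ N → orderOf x = 2 →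
    ∃ h : G, h * x * h⁻¹ ∈ (S : Subgroup G) ∧ core2 (h * x * h⁻¹) ≤ W

theorem Cover.fix_normalizer {W N : Subgroup G} (hW : Cover S W N) {g : G}
    (h : cj g (zOne S) ≤ normalizer (W : Set G)) : g ∈ normalizer (W : Set G) := by
  obtain ⟨m, hm, hle⟩ := exists_cj_le S hW.norm ((S.isPGroup'.to_le (zOne_le S)).map _) h
  change cj m (cj g (zOne S)) ≤ _ at hle
  rw [cj_cj] at hle
  exact ((normalizer (W : Set G)).mul_mem_cancel_left hm).mp (mem_normalizer_of_cj (hW.fix _ hle))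

/-- `O²(G)` has a strongly embedded subgroup, or the cover is trivial. -/
theorem Setting.stronglyEmbedded_or_bot {W N : Subgroup G} (hW : Cover S W N)
    (hO : Cfsg.pPrimeCore 2 G = ⊥) (hR : (S : Subgroup G) ⊓ Cfsg.pResidual 2 G ≠ ⊥)
    (hN : Cfsg.pResidual 2 G ≤ N) :
    (∃ M : Subgroup ↥(Cfsg.pResidual 2 G), Cfsg.IsStronglyEmbedded M) ∨ W = ⊥ := by
  haveI : Fact (Nat.Prime 2) := ⟨Nat.prime_two⟩
  by_cases hW1 : W = ⊥
  · exact Or.inr hW1
  set H := Cfsg.pResidual 2 G with hH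
  haveI hHn : H.Normal := CfsgLib.Transfer.pResidual_normal
  set M := normalizer (W : Set G) with hM
  have hfix : ∀ g : G, cj g (zOne S) ≤ M → g ∈ M := fun g hg => hW.fix_normalizer hs hg
  have hcent : ∀ v ∈ M, v ∈ H → orderOf v = 2 →
      centralizer ({v} : Set G) ≤ M ∧ ∃ m ∈ M, m * v * m⁻¹ ∈ (S : Subgroup G) := by
    intro v hv hvH hv2
    obtain ⟨m, hm, hle⟩ := exists_cj_le S hW.norm (IsPGroup.of_card (n := 1)
      (by rw [Nat.card_zpowers, hv2, pow_one])) (zpowers_le.mpr hv)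
    have hxS : m * v * m⁻¹ ∈ (S : Subgroup G) := hle (conj_mem_cj (mem_zpowers v))
    refine ⟨?_, m, hm, hxS⟩
    set x := m * v * m⁻¹ with hx
    have hx2 : orderOf x = 2 := (CfsgLib.Signalizer.orderOf_conj m v).trans hv2
    obtain ⟨h, hhS, hhW⟩ := hW.cover x hxS (hN (hHn.conj_mem v hvH m)) hx2
    have hCx' := hs.centralizer_le hW.norm hfix hhS
      ((CfsgLib.Signalizer.orderOf_conj h x).trans hx2) (hhW.trans le_normalizer)
    have hhM : h ∈ M := hfix h fun y hy => hCx' (by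
      obtain ⟨z, hz, rfl⟩ := hy
      exact mem_centralizer_singleton_iff.mpr (conj_commute ((mem_zOne.mp hz).2.1 x hxS).symm))
    intro c hc
    have hd := M.mul_mem hhM hm
    have h2 : (h * m) * c * (h * m)⁻¹ ∈ centralizer ({h * x * h⁻¹} : Set G) := by
      rw [hx, show h * (m * v * m⁻¹) * h⁻¹ = (h * m) * v * (h * m)⁻¹ by group]
      exact mem_centralizer_singleton_iff.mpr (conj_commute (mem_centralizer_singleton_iff.mp hc))
    have h3 := M.mul_mem (M.mul_mem (M.inv_mem hd) (hCx' h2)) hd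
    rwa [show (h * m)⁻¹ * (h * m * c * (h * m)⁻¹) * (h * m) = c by group] at h3
  refine Or.inl ⟨M.subgroupOf H, fun e => hW1 ?_, ?_, fun g hg => ?_⟩
  · have htop : M = ⊤ := top_le_iff.mp
      ((CfsgLib.Transfer.sup_sylow_eq_top CfsgLib.Transfer.isPGroup_quotient_pResidual S).ge.trans
        (sup_le (subgroupOf_eq_top.mp e) hW.norm))
    haveI : W.Normal := normalizer_eq_top_iff.mp htop
    rw [eq_bot_iff, ← hO]
    exact CfsgLib.Core.le_pPrimeCore (Nat.coprime_two_right.mpr hW.odd)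
  · obtain ⟨w, hw, hw1⟩ : ∃ w ∈ (S : Subgroup G) ⊓ H, w ≠ 1 := by
      by_contra hno
      push Not at hno
      exact hR ((eq_bot_iff_forall _).mpr hno)
    obtain ⟨v, hv, hv2⟩ := exists_involution_pow S.isPGroup' hw.1 hw1
    have hvm : v ∈ (S : Subgroup G) ⊓ H := zpowers_le.mpr hw hv
    have hmem : (⟨v, hvm.2⟩ : H) ∈ M.subgroupOf H := mem_subgroupOf.mpr (hW.norm hvm.1)
    refine even_iff_two_dvd.mpr ?_
    exact ((Subgroup.orderOf_mk v hvm.2).trans hv2).symm.dvd.trans (Subgroup.orderOf_dvd_natCard _ hmem)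
  · rw [← Nat.not_even_iff_odd]
    intro hev
    obtain ⟨⟨w, hw⟩, hw2⟩ := exists_prime_orderOf_dvd_card' 2 (even_iff_two_dvd.1 hev)
    rw [Subgroup.orderOf_mk] at hw2
    obtain ⟨hwM, v, hv, hvw⟩ := hw
    have hvw' : (g : G) * v * (g : G)⁻¹ = w := congrArg Subtype.val hvw
    have hw2' : orderOf (w : G) = 2 := (Subgroup.orderOf_coe w).trans hw2
    have hv2 : orderOf (v : G) = 2 := by rw [← hw2', ← hvw', CfsgLib.Signalizer.orderOf_conj]
    obtain ⟨hCw, -⟩ := hcent w hwM w.2 hw2'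
    obtain ⟨-, m, hm, hmS⟩ := hcent v hv v.2 hv2
    refine hg (mem_subgroupOf.mpr ?_)
    have h1 : (g : G) * m⁻¹ ∈ M := hfix _ fun y hy => hCw (by
      obtain ⟨z, hz, rfl⟩ := hy
      have h2 := conj_commute (g := (g : G) * m⁻¹) ((mem_zOne.mp hz).2.1 _ hmS).symm
      rw [show (g : G) * m⁻¹ * (m * v * m⁻¹) * ((g : G) * m⁻¹)⁻¹ = w by rw [← hvw']; group] at h2
      exact mem_centralizer_singleton_iff.mpr h2)
    simpa using M.mul_mem h1 hm

end CfsgLib.PGroups.ZC
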