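import Cfsg.Agent.Lib.PGroups.ZC.Common

/-!
Owner: helper14. The case in which `S` has no elementary subgroup of order eight and `|Z| = 2`: all
involutions of `S` in `O²(G)` are conjugate to `z`, and the core of `C(z)` is a cover.
-/

set_option autoImplicit false
set_option linter.style.haveILetI false
set_option linter.unusedSectionVars false

namespace CfsgLib.PGroups.ZC

open Subgroup CfsgLib.Bender.Dichotomy

universe u

variable {G : Type u} [Group G] [Finite G]

/-- A normal four-group or a cyclic subgroup of index two. -/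
theorem normal_four_or_cyclic {S : Sylow 2 G} (hno : ¬ ∃ E, Eight E ∧ E ≤ (S : Subgroup G)) {a b : G}
    (ha : a ∈ (S : Subgroup G)) (hb : b ∈ (S : Subgroup G)) (ha2 : orderOf a = 2) (hb2 : orderOf b = 2)
    (hne : a ≠ b) (hc : a * b = b * a) :
    (∃ X : Subgroup G, IsCyclic X ∧ X ≤ (S : Subgroup G) ∧ X.relIndex (S : Subgroup G) ≤ 2) ∨
    ∃ U : Subgroup G, U ≤ (S : Subgroup G) ∧ Cfsg.IsElementaryAbelian 2 U ∧ Nat.card U = 4 ∧
      (S : Subgroup G) ≤ normalizer (U : Set G) := by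
  have hsmall : ∀ A : Subgroup G, Cfsg.IsElementaryAbelian 2 A → A ≤ (S : Subgroup G) → Nat.card A ≤ 4 := by
    intro A hA hAS
    obtain ⟨k, hk⟩ := (CfsgLib.Signalizer.elementary_isPGroup hA).exists_card_eq
    have hlt : Nat.card A < 8 := lt_of_not_ge fun h => hno ⟨A, ⟨hA, h⟩, hAS⟩
    rw [hk] at hlt ⊢
    have : k < 3 := (Nat.pow_lt_pow_iff_right (le_refl 2)).1 hlt
    exact (Nat.pow_le_pow_right two_pos (by omega : k ≤ 2)).trans le_rfl
  obtain ⟨hB, hB4⟩ := four_of_pair ha2 hb2 hne hc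
  set B := zpowers a ⊔ zpowers b
  have hBS : B ≤ (S : Subgroup G) := sup_le (zpowers_le.mpr ha) (zpowers_le.mpr hb)
  have hB4' : Nat.card B = 4 := le_antisymm (hsmall B hB hBS) hB4
  have hel : ∀ A : Subgroup (S : Subgroup G), IsMulCommutative A → (∀ x ∈ A, x ^ 2 = 1) →
      Cfsg.IsElementaryAbelian 2 (A.map (S : Subgroup G).subtype) := fun A _ hA2 => elem_of_sq (by
    rintro _ ⟨x, hx, rfl⟩
    rw [← map_mul, ← pow_two, hA2 x hx, map_one])
  rcases CfsgLib.TwoGroups.RankTwoTypes.normal_four_or S.isPGroup' (fun A hA hA2 => by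
      rw [← card_map_of_injective (K := A) (S : Subgroup G).subtype_injective]
      exact hsmall _ (hel A hA hA2) (map_subtype_le _))
    (B := B.subgroupOf (S : Subgroup G))
    ⟨⟨fun x y => Subtype.ext (Subtype.ext (congrArg (fun w : B => (w : G))
      (hB.1.is_comm.comm ⟨_, mem_subgroupOf.mp x.2⟩ ⟨_, mem_subgroupOf.mp y.2⟩)))⟩⟩
    (fun x hx => Subtype.ext (hB.2 _ (mem_subgroupOf.mp hx)))
    (by rw [Nat.card_congr (subgroupOfEquivOfLe hBS).toEquiv, hB4']) with h | ⟨U, hUn, hUc, hU2, hU4⟩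
  · exact Or.inl (exists_cyclic_of_dihOrQD h)
  · refine Or.inr ⟨U.map (S : Subgroup G).subtype, map_subtype_le _, hel U hUc hU2, ?_, ?_⟩
    · rw [card_map_of_injective (S : Subgroup G).subtype_injective, hU4]
    · intro s hs
      exact le_normalizer_map (S : Subgroup G).subtype ⟨⟨s, hs⟩, (normalizer_eq_top U).ge (mem_top _), rfl⟩

variable {S : Sylow 2 G} (h : Hyp S) (hno : ¬ ∃ E, Eight E ∧ E ≤ (S : Subgroup G)) {z : G} (hz : TwoAt S z)
include h hno hz

/-- An involution of `S` other than `z` is conjugate in `S` to its product with `z`. -/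
theorem exists_conj_pair {x : G} (hxS : x ∈ (S : Subgroup G)) (hx2 : orderOf x = 2) (hxz : x ≠ z) :
    ∃ s ∈ (S : Subgroup G), s * x * s⁻¹ = z * x := by
  haveI : Fact (Nat.Prime 2) := ⟨Nat.prime_two⟩
  haveI : Group.IsNilpotent ↥(S : Subgroup G) := S.isPGroup'.isNilpotent
  set x' : (S : Subgroup G) := ⟨x, hxS⟩
  set C := centralizer ({x'} : Set (S : Subgroup G))
  have hne : C ≠ ⊤ := fun e => hxz (hz.eq_of_central hxS (fun s hs => by
    have h1 : (⟨s, hs⟩ : (S : Subgroup G)) ∈ C := e ▸ mem_top _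
    exact congrArg Subtype.val (mem_centralizer_singleton_iff.mp h1)) hx2)
  obtain ⟨s, hsN, hsC⟩ := SetLike.exists_of_lt (Group.normalizerCondition_of_isNilpotent C hne.lt_top)
  refine ⟨s, s.2, ?_⟩
  have hwC : s * x' * s⁻¹ ∈ C := (mem_normalizer_iff.mp hsN x').mp (mem_centralizer_singleton_iff.mpr rfl)
  set w : G := (s : G) * x * (s : G)⁻¹ with hw
  have hwx : w * x = x * w := congrArg Subtype.val (mem_centralizer_singleton_iff.mp hwC)
  have hw2 : orderOf w = 2 := (CfsgLib.Signalizer.orderOf_conj _ x).trans hx2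
  have hwS : w ∈ (S : Subgroup G) := (s * x' * s⁻¹).2
  obtain ⟨hA, hA4⟩ := four_of_pair hz.ord hx2 (Ne.symm hxz) (hz.central hxS).symm
  have hwA : w ∈ zpowers z ⊔ zpowers x := by
    by_contra hwA
    obtain ⟨F, hF, hFS, -, -⟩ := eight_of_four hA hA4 hw2
      (fun a ha => mem_centralizer_singleton_iff.mp
        ((sup_le (zpowers_le.mpr (mem_centralizer_singleton_iff.mpr (hz.central hwS).symm))
          (zpowers_le.mpr (mem_centralizer_singleton_iff.mpr hwx.symm)) :
            zpowers z ⊔ zpowers x ≤ centralizer ({w} : Set G)) ha)) hwA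
      (sup_le (zpowers_le.mpr hz.mem_sylow) (zpowers_le.mpr hxS)) hwS
    exact hno ⟨F, hF, hFS⟩
  have hsub : ∀ y ∈ zpowers z ⊔ zpowers x, y = 1 ∨ y = z ∨ y = x ∨ y = z * x := by
    intro y hy
    rw [sup_eq_closure] at hy
    induction hy using Subgroup.closure_induction with
    | mem y hy =>
      rcases hy with hy | hy <;> obtain ⟨j, rfl⟩ := mem_zpowers_iff.mp hy
      · rw [zpow_eq_zpow_emod' j (show z ^ 2 = 1 by rw [pow_two]; exact sq_of_orderOf_two hz.ord)]
        rcases Int.emod_two_eq j with e | e <;> simp [e]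
      · rw [zpow_eq_zpow_emod' j (show x ^ 2 = 1 by rw [pow_two]; exact sq_of_orderOf_two hx2)]
        rcases Int.emod_two_eq j with e | e <;> simp [e]
    | one => exact Or.inl rfl
    | mul a b _ _ ha hb =>
      have hz2 := sq_of_orderOf_two hz.ord
      have hx2' := sq_of_orderOf_two hx2
      have hxzc : x * z = z * x := hz.central hxS
      have e1 : z * (z * x) = x := by rw [← mul_assoc, hz2, one_mul]
      have e2 : x * (z * x) = z := by rw [← mul_assoc, hxzc, mul_assoc, hx2', mul_one]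
      have e3 : z * x * z = x := by rw [mul_assoc, hxzc, e1]
      have e4 : z * x * x = z := by rw [mul_assoc, hx2', mul_one]
      have e5 : z * x * (z * x) = 1 := by rw [mul_assoc, e2, hz2]
      rcases ha with rfl | rfl | rfl | rfl <;> rcases hb with rfl | rfl | rfl | rfl <;>
        simp [hz2, hx2', hxzc, e1, e2, e3, e4, e5]
    | inv a _ ha =>
      have hinv : (z * x)⁻¹ = z * x := by
        rw [mul_inv_rev, inv_eq_of_mul_eq_one_right (sq_of_orderOf_two hz.ord),
          inv_eq_of_mul_eq_one_right (sq_of_orderOf_two hx2), hz.central hxS]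
      rcases ha with rfl | rfl | rfl | rfl <;>
        simp [inv_eq_of_mul_eq_one_right (sq_of_orderOf_two hz.ord),
          inv_eq_of_mul_eq_one_right (sq_of_orderOf_two hx2), hinv]
  rcases hsub w hwA with e | e | e | e
  · exact absurd e (ne_one_of_orderOf_two hw2)
  · exact absurd (mul_left_cancel ((mul_inv_eq_iff_eq_mul.mp e).trans (hz.central s.2).symm)) hxz
  · exact absurd (mem_centralizer_singleton_iff.mpr (Subtype.ext (mul_inv_eq_iff_eq_mul.mp e))) hsC
  · exact e

/-- If a cyclic subgroup has index at most two, every involution of `S` in `O²(G)` is conjugate to `z`. -/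
theorem conj_of_cyclic {X : Subgroup G} (hX : IsCyclic X) (hXS : X ≤ (S : Subgroup G))
    (hXi : X.relIndex (S : Subgroup G) ≤ 2) {x : G} (hxS : x ∈ (S : Subgroup G)) (hx2 : orderOf x = 2)
    (hxH : x ∈ Cfsg.pResidual 2 G) : ∃ g : G, g * z * g⁻¹ = x := by
  haveI := hX
  have hin : ∀ w ∈ X, orderOf w = 2 → w = z := fun w hw hw2 => by
    by_contra hwz
    obtain ⟨s, hs, hse⟩ := exists_conj_pair h hno hz (hXS hw) hw2 hwz
    have hmem : s * w * s⁻¹ ∈ X := by
      by_cases hsX : s ∈ X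
      · exact X.mul_mem (X.mul_mem hsX hw) (X.inv_mem hsX)
      · refine mul_mem_of_relIndex hXi ((S : Subgroup G).mul_mem hs (hXS hw))
          ((S : Subgroup G).inv_mem hs) (fun e => hsX ?_) fun e => hsX (by simpa using X.inv_mem e)
        simpa using X.mul_mem e (X.inv_mem hw)
    have h1 := cyclic_inv_unique hmem hw ((CfsgLib.Signalizer.orderOf_conj s w).trans hw2) hw2
    rw [hse, mul_eq_right] at h1
    exact ne_one_of_orderOf_two hz.ord h1
  by_cases hxX : x ∈ X
  · exact ⟨1, by rw [hin x hxX hx2]; group⟩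
  · obtain ⟨g, -, hgX⟩ := exists_conj_into S hXi hxS hxX hxH hx2
    refine ⟨g⁻¹, ?_⟩
    rw [← hin _ hgX ((CfsgLib.Signalizer.orderOf_conj g x).trans hx2)]
    group

/-- With a second conjugate of `z` in `S`, every involution of `S` in `O²(G)` is conjugate to `z`. -/
theorem conj_all {g : G} (hg : g * z * g⁻¹ ∈ (S : Subgroup G)) (hgz : g * z * g⁻¹ ≠ z) {x : G}
    (hxS : x ∈ (S : Subgroup G)) (hx2 : orderOf x = 2) (hxH : x ∈ Cfsg.pResidual 2 G) :
    ∃ k : G, k * z * k⁻¹ = x := by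
  set y := g * z * g⁻¹ with hy
  have hy2 : orderOf y = 2 := (CfsgLib.Signalizer.orderOf_conj g z).trans hz.ord
  rcases normal_four_or_cyclic hno hz.mem_sylow hg hz.ord hy2 (Ne.symm hgz) (hz.central hg).symm with
    ⟨X, hX, hXS, hXi⟩ | ⟨U, hUS, hU, hU4, hUn⟩
  · exact conj_of_cyclic h hno hz hX hXS hXi hxS hx2 hxH
  haveI : Fact (Nat.Prime 2) := ⟨Nat.prime_two⟩
  set K := centralizer (U : Set G) with hK
  -- every involution of `S` centralising `U` lies in it
  have hKU : ∀ w ∈ (S : Subgroup G), w ∈ K → orderOf w = 2 → w ∈ U := fun w hwS hwK hw2 => by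
    by_contra hwU
    obtain ⟨F, hF, hFS, -, -⟩ := eight_of_four hU hU4.ge hw2 (mem_centralizer_iff.mp hwK) hwU hUS hwS
    exact hno ⟨F, hF, hFS⟩
  have hzK : z ∈ K := mem_centralizer_iff.mpr fun u hu => hz.central (hUS hu)
  have hzU : z ∈ U := hKU z hz.mem_sylow hzK hz.ord
  obtain ⟨v, hvU, hv2, hvz⟩ : ∃ v ∈ U, orderOf v = 2 ∧ v ≠ z := by
    obtain ⟨a, ha, b, hb, ha2, hb2, hne⟩ := exists_two_involutions hU hU4.ge
    by_cases e : a = z
    · exact ⟨b, hb, hb2, fun e' => hne (e.trans e'.symm)⟩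
    · exact ⟨a, ha, ha2, e⟩
  obtain ⟨s, hs, hse⟩ := exists_conj_pair h hno hz (hUS hvU) hv2 hvz
  have hgen : ∀ u ∈ U, u = 1 ∨ u = z ∨ u = v ∨ u = z * v := by
    classical
    haveI : Fintype U := Fintype.ofFinite _
    intro u hu
    by_contra hne
    push Not at hne
    have hv1 := ne_one_of_orderOf_two hv2
    have hz1 := ne_one_of_orderOf_two hz.ord
    have hzv1 : z * v ≠ 1 := fun e => hvz (mul_left_cancel (e.trans (sq_of_orderOf_two hz.ord).symm))
    have hzvz : z * v ≠ z := fun e => hv1 (mul_eq_left.mp e)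
    have hzvv : z * v ≠ v := fun e => hz1 (mul_eq_right.mp e)
    have h5 : ({1, ⟨z, hzU⟩, ⟨v, hvU⟩, ⟨z * v, U.mul_mem hzU hvU⟩, ⟨u, hu⟩} : Finset U).card = 5 := by
      rw [Finset.card_insert_of_notMem, Finset.card_insert_of_notMem, Finset.card_insert_of_notMem,
        Finset.card_pair]
      · simpa [Subtype.ext_iff] using Ne.symm hne.2.2.2
      · simp [Subtype.ext_iff, Ne.symm hzvv, Ne.symm hne.2.2.1]
      · simp [Subtype.ext_iff, Ne.symm hvz, Ne.symm hzvz, Ne.symm hne.2.1]
      · simp [Subtype.ext_iff, Ne.symm hz1, Ne.symm hv1, Ne.symm hzv1, Ne.symm hne.1]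
    have := Finset.card_le_univ ({1, ⟨z, hzU⟩, ⟨v, hvU⟩, ⟨z * v, U.mul_mem hzU hvU⟩, ⟨u, hu⟩} : Finset U)
    rw [h5, ← Nat.card_eq_fintype_card, hU4] at this
    omega
  have hKi : K.relIndex (S : Subgroup G) ≤ 2 := by
    refine le_of_eq ?_
    rw [Subgroup.relIndex_eq_two_iff]
    refine ⟨s, hs, fun b hb => ?_⟩
    have hKiff : ∀ c ∈ (S : Subgroup G), c ∈ K ↔ c * v * c⁻¹ = v := fun c hc => by
      refine ⟨fun hcK => mul_inv_eq_iff_eq_mul.mpr (mem_centralizer_iff.mp hcK v hvU).symm,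
        fun e => mem_centralizer_iff.mpr fun u hu => ?_⟩
      have e' : c * v = v * c := mul_inv_eq_iff_eq_mul.mp e
      rcases hgen u hu with rfl | rfl | rfl | rfl
      · simp
      · exact (hz.central hc).symm
      · exact e'.symm
      · rw [mul_assoc, ← e', ← mul_assoc, ← hz.central hc, mul_assoc]
    have hb' : b * v * b⁻¹ = v ∨ b * v * b⁻¹ = z * v := by
      rcases hgen _ ((mem_normalizer_iff.mp (hUn hb) v).mp hvU) with e | e | e | e
      · exact absurd (by simpa [mul_inv_eq_one] using e) (ne_one_of_orderOf_two hv2)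
      · exact absurd (mul_left_cancel ((mul_inv_eq_iff_eq_mul.mp e).trans (hz.central hb).symm)) hvz
      · exact Or.inl e
      · exact Or.inr e
    have hbs : b * s * v * (b * s)⁻¹ = z * (b * v * b⁻¹) := by
      rw [show b * s * v * (b * s)⁻¹ = b * (s * v * s⁻¹) * b⁻¹ by group, hse,
        show b * (z * v) * b⁻¹ = b * z * (v * b⁻¹) by group, hz.central hb]
      group
    have hzv : z * v ≠ v := fun e => ne_one_of_orderOf_two hz.ord (mul_eq_right.mp e)
    rw [hKiff b hb, hKiff (b * s) ((S : Subgroup G).mul_mem hb hs), hbs]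
    rcases hb' with e | e <;> rw [e]
    · exact Or.inr ⟨rfl, hzv⟩
    · exact Or.inl ⟨by rw [← mul_assoc, sq_of_orderOf_two hz.ord, one_mul], hzv⟩
  by_cases hpure : ∃ u ∈ U, u ≠ z ∧ ∃ k : G, k * z * k⁻¹ = u
  · have hall : ∀ u ∈ U, orderOf u = 2 → ∃ k : G, k * z * k⁻¹ = u := by
      obtain ⟨u, hu, huz, k, rfl⟩ := hpure
      have hv' : ∃ k : G, k * z * k⁻¹ = v := by
        rcases hgen _ hu with e | e | e | e
        · exact absurd ((CfsgLib.Signalizer.orderOf_conj k z).trans hz.ord) (by simp [e])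
        · exact absurd e huz
        · exact ⟨k, e⟩
        · refine ⟨s⁻¹ * k, ?_⟩
          rw [show s⁻¹ * k * z * (s⁻¹ * k)⁻¹ = s⁻¹ * (k * z * k⁻¹) * s by group, e, ← hse]
          group
      intro w hw hw2
      rcases hgen w hw with rfl | rfl | rfl | rfl
      · simp at hw2
      · exact ⟨1, by group⟩
      · exact hv'
      · obtain ⟨k', hk'⟩ := hv'
        exact ⟨s * k', by rw [← hse, ← hk']; group⟩
    by_cases hxK : x ∈ K
    · exact hall x (hKU x hxS hxK hx2) hx2
    · obtain ⟨k, hkS, hkK⟩ := exists_conj_into S hKi hxS hxK hxH hx2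
      obtain ⟨k', hk'⟩ := hall _ (hKU _ hkS hkK ((CfsgLib.Signalizer.orderOf_conj k x).trans hx2))
        ((CfsgLib.Signalizer.orderOf_conj k x).trans hx2)
      refine ⟨k⁻¹ * k', ?_⟩
      rw [show k⁻¹ * k' * z * (k⁻¹ * k')⁻¹ = k⁻¹ * (k' * z * k'⁻¹) * k by group, hk']
      group
  -- otherwise the centraliser of `y` in `S` is a four-group
  push Not at hpure
  have main : ∀ k : G, k * z * k⁻¹ ∈ (S : Subgroup G) → k * z * k⁻¹ ≠ z →
      ∀ c ∈ (S : Subgroup G) ⊓ centralizer ({k * z * k⁻¹} : Set G), c * c ≠ 1 → z ∈ zpowers (c * c) := by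
    intro k hkS hkz c hc hc2
    have hk2 : orderOf (k * z * k⁻¹) = 2 := (CfsgLib.Signalizer.orderOf_conj k z).trans hz.ord
    have hkK : k * z * k⁻¹ ∉ K := fun e => hpure _ (hKU _ hkS e hk2) hkz k rfl
    refine mem_zpowers_sq S.isPGroup' inf_le_left hKi (fun w hw hwK hw2 => ?_) hc hc2
    by_contra hwz
    have hwU := hKU w hw.1 hwK hw2
    have hwy := mem_centralizer_singleton_iff.mp hw.2
    refine hkK (mem_centralizer_iff.mpr fun u hu => ?_)
    have hzc : z * (k * z * k⁻¹) = k * z * k⁻¹ * z := (hz.central hkS).symm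
    rcases hgen w hwU with rfl | rfl | rfl | rfl
    · simp at hw2
    · exact absurd rfl hwz
    · rcases hgen u hu with rfl | rfl | rfl | rfl
      · simp
      · exact hzc
      · exact hwy
      · rw [mul_assoc, hwy, ← mul_assoc, hzc, mul_assoc]
    · have hvy : v * (k * z * k⁻¹) = k * z * k⁻¹ * v := by
        have e : v = z * (z * v) := by rw [← mul_assoc, sq_of_orderOf_two hz.ord, one_mul]
        rw [e, mul_assoc, hwy, ← mul_assoc, hzc, mul_assoc]
      rcases hgen u hu with rfl | rfl | rfl | rfl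
      · simp
      · exact hzc
      · exact hvy
      · exact hwy
  have hexp : ∀ c ∈ (S : Subgroup G) ⊓ centralizer ({y} : Set G), c * c = 1 := by
    intro c hc
    by_contra hc2
    have h1 := main g hg hgz c hc hc2
    have hg' := hz.symm h.toSetting hg
    have hg'' : g⁻¹ * z * g⁻¹⁻¹ ∈ (S : Subgroup G) := by rw [inv_inv]; exact hg'
    have hg'z : g⁻¹ * z * g⁻¹⁻¹ ≠ z := fun e => hgz (by
      calc g * z * g⁻¹ = g * (g⁻¹ * z * g⁻¹⁻¹) * g⁻¹ := by rw [e]
        _ = z := by group)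
    have hc' : g⁻¹ * c * g ∈ (S : Subgroup G) := by
      refine mem_cj.mp (hz.two_le_cj h.toSetting
        ((S.isPGroup'.to_le (zpowers_le.mpr hc.1))) (fun q hq => ?_) (mem_zpowers c))
      obtain ⟨j, rfl⟩ := mem_zpowers_iff.mp hq
      exact ((show Commute c y from mem_centralizer_singleton_iff.mp hc.2).zpow_left j).eq
    have h2 := main g⁻¹ hg'' hg'z (g⁻¹ * c * g)
      ⟨hc', mem_centralizer_singleton_iff.mpr (by
        have := conj_commute (g := g⁻¹) (hz.central hc.1)
        rw [inv_inv] at this ⊢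
        exact this)⟩ (fun e => hc2 (by
          calc c * c = g * (g⁻¹ * c * g * (g⁻¹ * c * g)) * g⁻¹ := by group
            _ = 1 := by rw [e]; group))
    obtain ⟨j, hj⟩ := mem_zpowers_iff.mp h2
    have h3 : y ∈ zpowers (c * c) := mem_zpowers_iff.mpr ⟨j, by
      rw [hy, ← hj, show g⁻¹ * c * g * (g⁻¹ * c * g) = MulAut.conj g⁻¹ (c * c) by
        simp only [MulAut.conj_apply]; group, ← map_zpow, MulAut.conj_apply]
      group⟩
    exact hgz (cyclic_inv_unique h3 h1 hy2 hz.ord)
  obtain ⟨X, hX, hXS, hXi⟩ := exists_cyclic_of_elem_cent S.isPGroup' hz.mem_sylow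
    (fun c hc => hz.central hc) hg hz.ord hy2 (Ne.symm hgz) hexp
    fun ⟨F, hF, hFle⟩ => hno ⟨F, hF, hFle.trans inf_le_left⟩
  exact conj_of_cyclic h hno hz hX hXS hXi hxS hx2 hxH

/-- The core of `C(z)` is centralised by `S`, so lies in the core at any conjugate of `z` in `S`. -/
theorem core2_le_conj {g : G} (hg : g * z * g⁻¹ ∈ (S : Subgroup G)) : core2 z ≤ core2 (g * z * g⁻¹) := by
  have hs := h.toSetting
  refine le_trans (le_inf le_rfl fun d hd => ?_)
    (hs.balance hz.ord ((CfsgLib.Signalizer.orderOf_conj g z).trans hz.ord) (hz.central hg).symm)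
  have hdN : d ∈ normalizer ((S : Subgroup G) : Set G) := hs.normalizer_mem fun w hw => by
    rcases hz.only w hw with rfl | rfl
    · simp
    · exact mem_centralizer_singleton_iff.mp (core2_le _ hd)
  set y := g * z * g⁻¹
  have hyC : y ∈ centralizer ({z} : Set G) := mem_centralizer_singleton_iff.mpr (hz.central hg)
  have hcS : d * y * d⁻¹ * y⁻¹ ∈ (S : Subgroup G) :=
    mul_mem ((mem_normalizer_iff.mp hdN y).mp hg) (inv_mem hg)
  have hcD : d * y * d⁻¹ * y⁻¹ ∈ core2 z := by
    rw [mul_assoc, mul_assoc, ← mul_assoc y d⁻¹]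
    exact mul_mem hd ((mem_normalizer_iff.mp (core2_le_normalizer z hyC) _).mp (inv_mem hd))
  have hone : d * y * d⁻¹ * y⁻¹ = 1 := by
    by_contra hne
    obtain ⟨w, hw, hw2⟩ := exists_involution_pow S.isPGroup' hcS hne
    have hdvd := Subgroup.orderOf_dvd_natCard _ (zpowers_le.mpr hcD hw)
    rw [hw2] at hdvd
    exact Nat.not_even_iff_odd.mpr (odd_core2 z) (even_iff_two_dvd.mpr hdvd)
  exact mem_centralizer_singleton_iff.mpr (mul_inv_eq_iff_eq_mul.mp (mul_inv_eq_one.mp hone))

/-- The core of `C(z)` is a cover. -/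
theorem cover_core {g : G} (hg : g * z * g⁻¹ ∈ (S : Subgroup G)) (hgz : g * z * g⁻¹ ≠ z) :
    Cover S (core2 z) (Cfsg.pResidual 2 G) := by
  have hfix : ∀ k : G, k * z * k⁻¹ ∈ (S : Subgroup G) → core2 (k * z * k⁻¹) = core2 z := fun k hk => by
    refine le_antisymm ?_ (core2_le_conj h hno hz hk)
    have h' := hz.symm h.toSetting hk
    have h1 := cj_mono (g := k) (core2_le_conj h hno hz (g := k⁻¹) (by rwa [inv_inv]))
    rw [← core2_conj, ← core2_conj, inv_inv] at h1
    rwa [show k * (k⁻¹ * z * k) * k⁻¹ = z by group] at h1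
  refine ⟨odd_core2 z, fun s hs => core2_le_normalizer z ?_, fun k hk => ?_, fun x hxS hxH hx2 => ?_⟩
  · exact mem_centralizer_singleton_iff.mpr (hz.central hs)
  · rw [← core2_conj]; exact hfix k (hk (conj_mem_cj hz.mem))
  · obtain ⟨k, rfl⟩ := conj_all h hno hz hg hgz hxS hx2 hxH
    exact ⟨1, by simpa using hxS, by simpa using (hfix k hxS).le⟩

end CfsgLib.PGroups.ZC
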