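import Cfsg.Agent.Lib.PGroups.ZC.CoverEight
import Cfsg.Agent.Lib.PGroups.ZC.NoEight
import Cfsg.Agent.S1789

/-!
Owner: helper14. The reduction of a ZC-group to local characteristic two (S3759).
-/

set_option autoImplicit false
set_option linter.style.haveILetI false
set_option linter.unusedSectionVars false

namespace CfsgLib.PGroups.ZC

open Subgroup CfsgLib.Bender.Dichotomy

universe u

variable {G : Type u} [Group G] [Finite G]

/-- A solvable group has no component. -/
theorem not_isComponent_of_solvable {X : Type*} [Group X] [Finite X] [Group.IsSolvable X] (K : Subgroup X) :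
    ¬ Cfsg.IsComponent K := by
  rintro ⟨-, hp, hsimp⟩
  haveI := hsimp
  obtain ⟨q, hq⟩ := exists_ne (1 : K ⧸ Subgroup.center K)
  obtain ⟨k, rfl⟩ := QuotientGroup.mk_surjective q
  haveI : Nontrivial K := ⟨⟨k, 1, fun e => hq (by rw [e]; rfl)⟩⟩
  exact (Group.IsSolvable.commutator_lt_top_of_nontrivial K).ne hp.1

/-- `O²(G) Z` is normal. -/
theorem sup_zOne_normal (S : Sylow 2 G) : (Cfsg.pResidual 2 G ⊔ zOne S).Normal := by
  haveI : Fact (Nat.Prime 2) := ⟨Nat.prime_two⟩
  haveI : (Cfsg.pResidual 2 G).Normal := CfsgLib.Transfer.pResidual_normal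
  set H := Cfsg.pResidual 2 G
  refine normalizer_eq_top_iff.mp (top_le_iff.mp ?_)
  rw [← CfsgLib.Transfer.sup_sylow_eq_top CfsgLib.Transfer.isPGroup_quotient_pResidual S]
  refine sup_le (le_sup_left.trans le_normalizer) fun s hs => mem_normalizer_of_cj ?_
  refine eq_of_le_of_card_ge (cj_le_iff.mpr fun y hy => ?_) (card_cj s _).ge
  obtain ⟨a, ha, w, hw, rfl⟩ := mem_sup_of_normal_left.mp hy
  rw [show s * (a * w) * s⁻¹ = s * a * s⁻¹ * (s * w * s⁻¹) by group, (mem_zOne.mp hw).2.1 s hs,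
    mul_inv_cancel_right]
  exact mul_mem (mem_sup_left (Normal.conj_mem inferInstance a ha s)) (mem_sup_right hw)

/-- A trivial cover gives characteristic 2 type. -/
theorem charTwo_of_cover {S : Sylow 2 G} (h : Hyp S)
    (hW : Cover S ⊥ (Cfsg.pResidual 2 G ⊔ zOne S)) :
    Cfsg.IsCharacteristicTwoType ↥(Cfsg.pResidual 2 G ⊔ zOne S) := by
  classical
  haveI : Fact (Nat.Prime 2) := ⟨Nat.prime_two⟩
  set K := Cfsg.pResidual 2 G ⊔ zOne S with hK
  haveI hKn : K.Normal := sup_zOne_normal S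
  haveI : (Cfsg.pResidual 2 G).Normal := CfsgLib.Transfer.pResidual_normal
  obtain ⟨w, hwZ, -, hw2⟩ := zOne_inf_ne_bot h.res
  have hev : Even (Nat.card K) := even_iff_two_dvd.mpr
    (hw2.symm.dvd.trans (Subgroup.orderOf_dvd_natCard _ (mem_sup_right hwZ : w ∈ K)))
  have hcore : ∀ x : G, x ∈ K → orderOf x = 2 → core2 x = ⊥ := by
    intro x hxK hx2
    obtain ⟨g, hg⟩ := exists_le_cj S (IsPGroup.of_card (n := 1) (G := zpowers x)
      (by rw [Nat.card_zpowers, hx2, pow_one]))
    have hxS : g⁻¹ * x * g ∈ (S : Subgroup G) := mem_cj.mp (hg (mem_zpowers x))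
    have hxK' : g⁻¹ * x * g ∈ K := hKn.conj_mem' x hxK g
    have ho : orderOf (g⁻¹ * x * g) = 2 := by
      have := CfsgLib.Signalizer.orderOf_conj g⁻¹ x
      rw [inv_inv] at this
      exact this.trans hx2
    obtain ⟨k, -, hk⟩ := hW.cover _ hxS hxK' ho
    rw [le_bot_iff, show k * (g⁻¹ * x * g) * k⁻¹ = k * g⁻¹ * x * (k * g⁻¹)⁻¹ by group, core2_conj] at hk
    exact (map_eq_bot_iff_of_injective _ (MulAut.conj _).injective).mp hk
  refine Cfsg.Agent.S1789.key (fun x hx => ?_) hev fun x hx Q => ?_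
  · set X : Subgroup G := (Cfsg.centralizerPPrimeCore 2 x).map K.subtype with hXdef
    have hx2' : orderOf (x : G) = 2 := (Subgroup.orderOf_coe x).trans hx
    have hmem : ∀ c ∈ centralizer ({(x : G)} : Set G), ∀ y ∈ X, c * y * c⁻¹ ∈ X := by
      rintro c hc _ ⟨y, hy, rfl⟩
      have hfix : (MulAut.conjNormal c : MulAut K) x = x := Subtype.ext (by
        rw [MulAut.conjNormal_apply]
        exact mul_inv_eq_iff_eq_mul.mpr (mem_centralizer_singleton_iff.mp hc))
      refine ⟨MulAut.conjNormal c y, ?_, MulAut.conjNormal_apply c y⟩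
      have := CfsgLib.Signalizer.mem_centralizerPPrimeCore_map (MulAut.conjNormal c : MulAut K) hy
      rwa [hfix] at this
    have hXbot : X ≤ core2 (x : G) := by
      refine CfsgLib.Classical.TwoType.le_oC ?_ ?_ (CfsgLib.Signalizer.conj_mem_iff_le_normalizer.1 hmem)
      · rw [hXdef, card_map_of_injective K.subtype_injective]
        exact odd_core2 x
      · rintro _ ⟨y, hy, rfl⟩
        exact mem_centralizer_singleton_iff.mpr
          (congrArg Subtype.val (mem_centralizer_singleton_iff.mp (core2_le x hy)))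
    rw [hcore x x.2 hx2', le_bot_iff, hXdef, map_eq_bot_iff_of_injective _ K.subtype_injective] at hXbot
    exact hXbot
  · haveI := h.sol (x : G) ((Subgroup.orderOf_coe x).trans hx)
    haveI : Group.IsSolvable ↥(centralizer ({x} : Set K)) := by
      let f : centralizer ({x} : Set K) →* centralizer ({(x : G)} : Set G) :=
        (K.subtype.comp (centralizer ({x} : Set K)).subtype).codRestrict _ fun c =>
          mem_centralizer_singleton_iff.mpr (congrArg Subtype.val (mem_centralizer_singleton_iff.mp c.2))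
      exact Group.isSolvable_of_isSolvable_injective (f := f) fun a b hab =>
        Subtype.ext (Subtype.ext (congrArg (fun w : centralizer ({(x : G)} : Set G) => (w : G)) hab))
    haveI : Group.IsSolvable (↥(centralizer ({x} : Set K)) ⧸ Cfsg.pPrimeCore 2 ↥(centralizer ({x} : Set K))) :=
      Group.isSolvable_of_surjective (QuotientGroup.mk'_surjective _)
    exact not_isComponent_of_solvable Q

/-- The conclusion for a Sylow 2-subgroup. -/
theorem reduction {S : Sylow 2 G} (h : Hyp S) :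
    (∃ M : Subgroup ↥(Cfsg.pResidual 2 G), Cfsg.IsStronglyEmbedded M) ∨
      (Nat.card ↥(zOne S ⊓ Cfsg.pResidual 2 G) = 2 ∧ ∀ k ∈ Cfsg.pResidual 2 G,
        ∀ z ∈ zOne S ⊓ Cfsg.pResidual 2 G, k * z * k⁻¹ ∈ (S : Subgroup G) → k * z * k⁻¹ ∈ zOne S) ∨
      (Nat.card ↥(zOne S) = 4 ∧ Cfsg.omegaOne 2 ((S : Subgroup G) ⊓ Cfsg.pResidual 2 G) = zOne S) ∨
      Cfsg.IsCharacteristicTwoType ↥(Cfsg.pResidual 2 G ⊔ zOne S) := by
  classical
  haveI : Fact (Nat.Prime 2) := ⟨Nat.prime_two⟩
  haveI : (Cfsg.pResidual 2 G).Normal := CfsgLib.Transfer.pResidual_normal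
  have finish : ∀ W : Subgroup G, Cover S W (Cfsg.pResidual 2 G ⊔ zOne S) →
      (∃ M : Subgroup ↥(Cfsg.pResidual 2 G), Cfsg.IsStronglyEmbedded M) ∨
      Cfsg.IsCharacteristicTwoType ↥(Cfsg.pResidual 2 G ⊔ zOne S) := fun W hW => by
    rcases h.toSetting.stronglyEmbedded_or_bot hW h.core h.res le_sup_left with hse | rfl
    · exact Or.inl hse
    · exact Or.inr (charTwo_of_cover h hW)
  by_cases hE : ∃ E, Eight E ∧ E ≤ (S : Subgroup G)
  · obtain ⟨E, hE8, hES⟩ := hE
    rcases finish _ (cover_eight h hE8 hES) with e | e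
    exacts [Or.inl e, Or.inr (Or.inr (Or.inr e))]
  rcases twoAt_or_four h with ⟨z, hz, hzH⟩ | h4
  · have hZH : zOne S ≤ Cfsg.pResidual 2 G := fun w hw => by
      rcases hz.only w hw with rfl | rfl
      exacts [one_mem _, hzH]
    have hZc : Nat.card ↥(zOne S) = 2 := by
      have : zOne S = zpowers z := le_antisymm (fun w hw => by
        rcases hz.only w hw with rfl | rfl
        exacts [one_mem _, mem_zpowers _]) (zpowers_le.mpr hz.mem)
      rw [this, Nat.card_zpowers, hz.ord]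
    by_cases hwc : ∀ k ∈ Cfsg.pResidual 2 G, ∀ w ∈ zOne S ⊓ Cfsg.pResidual 2 G,
        k * w * k⁻¹ ∈ (S : Subgroup G) → k * w * k⁻¹ ∈ zOne S
    · exact Or.inr (Or.inl ⟨by rw [inf_eq_left.mpr hZH, hZc], hwc⟩)
    push Not at hwc
    obtain ⟨k, -, w, ⟨hw, -⟩, hkS, hkZ⟩ := hwc
    rcases hz.only w hw with rfl | rfl
    · exact absurd (by simp) hkZ
    have hne : k * w * k⁻¹ ≠ w := fun e => hkZ (e.symm ▸ hw)
    have hcov := cover_core h hE hz hkS hne
    rw [← sup_eq_left.mpr hZH] at hcov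
    rcases finish _ hcov with e | e
    exacts [Or.inl e, Or.inr (Or.inr (Or.inr e))]
  · -- every involution of `S` lies in `Z`
    have hinv : ∀ x ∈ (S : Subgroup G), x * x = 1 → x ∈ zOne S := fun x hx hx2 => by
      by_contra hxZ
      have hx1 : x ≠ 1 := fun e => hxZ (e ▸ one_mem _)
      obtain ⟨F, hF, hFS, -, -⟩ := eight_of_four (zOne_elem S) h4 (orderOf_two hx2 hx1)
        (fun a ha => ((mem_zOne.mp ha).2.1 x hx).symm) hxZ (zOne_le S) hx
      exact hE ⟨F, hF, hFS⟩
    have hZ4 : Nat.card ↥(zOne S) = 4 := by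
      obtain ⟨k, hk⟩ := (CfsgLib.Signalizer.elementary_isPGroup (zOne_elem S)).exists_card_eq
      have hlt : Nat.card ↥(zOne S) < 8 := lt_of_not_ge fun e => hE ⟨_, ⟨zOne_elem S, e⟩, zOne_le S⟩
      rw [hk] at hlt h4 ⊢
      have h2 : 2 ≤ k := (Nat.pow_le_pow_iff_right (le_refl 2)).1 h4
      have h3 : k < 3 := (Nat.pow_lt_pow_iff_right (le_refl 2)).1 hlt
      rw [show k = 2 by omega]; norm_num
    by_cases hZH : zOne S ≤ Cfsg.pResidual 2 G
    · refine Or.inr (Or.inr (Or.inl ⟨hZ4, le_antisymm ?_ fun w hw => ?_⟩))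
      · refine (closure_le _).mpr fun x hx => hinv x hx.1.1 ?_
        rw [← pow_two]; exact hx.2
      · exact CfsgLib.PGroups.mem_omegaOne ⟨zOne_le S hw, hZH hw⟩
          (by rw [pow_two]; exact (mem_zOne.mp hw).2.2)
    · refine Or.inr (Or.inl ⟨?_, fun k hk w hw hkS => hinv _ hkS ?_⟩)
      · obtain ⟨w, hw, hwH, hw2⟩ := zOne_inf_ne_bot h.res
        obtain ⟨k, hk⟩ := (CfsgLib.Signalizer.elementary_isPGroup
          (CfsgLib.Signalizer.elementary_of_le (zOne_elem S)
            (inf_le_left : zOne S ⊓ Cfsg.pResidual 2 G ≤ zOne S))).exists_card_eq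
        have hlt : Nat.card ↥(zOne S ⊓ Cfsg.pResidual 2 G) < 4 := by
          rw [← hZ4]
          refine lt_of_not_ge fun e => hZH ?_
          exact (eq_of_le_of_card_ge inf_le_left e).ge.trans inf_le_right
        have h2 : 2 ∣ Nat.card ↥(zOne S ⊓ Cfsg.pResidual 2 G) :=
          hw2.symm.dvd.trans (Subgroup.orderOf_dvd_natCard _ ⟨hw, hwH⟩)
        obtain ⟨d, hd⟩ := h2
        have hpos : 0 < Nat.card ↥(zOne S ⊓ Cfsg.pResidual 2 G) := Nat.card_pos
        omega
      · rw [show k * w * k⁻¹ * (k * w * k⁻¹) = k * (w * w) * k⁻¹ by group,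
          (mem_zOne.mp hw.1).2.2]
        group

end CfsgLib.PGroups.ZC
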