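import Cfsg.Agent.Lib.Bender.Dichotomy.Setup
import Cfsg.Agent.Lib.Transfer.MaximalClass
import Cfsg.Agent.Lib.TwoGroups.RankTwoMaxClass

/-!
Owner: helper14. Elementary facts about 2-subgroups for S3759: the centraliser of an involution with one
involution in a subgroup of index two, and cyclic subgroups of index two.
-/

set_option autoImplicit false
set_option linter.style.haveILetI false

namespace CfsgLib.PGroups.ZC

open Subgroup CfsgLib.Bender.Dichotomy

variable {G : Type*} [Group G] [Finite G]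

/-- A cyclic subgroup has at most one involution. -/
theorem cyclic_inv_unique {X : Subgroup G} [IsCyclic X] {a b : G} (ha : a ∈ X) (hb : b ∈ X)
    (ha2 : orderOf a = 2) (hb2 : orderOf b = 2) : a = b := by
  classical
  haveI : Fintype X := Fintype.ofFinite _
  by_contra hne
  have h := IsCyclic.card_pow_eq_one_le (α := X) (n := 2) two_pos
  have hsub : ({1, ⟨a, ha⟩, ⟨b, hb⟩} : Finset X) ⊆
      Finset.univ.filter (fun x : X => x ^ 2 = 1) := by
    intro x hx
    simp only [Finset.mem_insert, Finset.mem_singleton] at hx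
    rw [Finset.mem_filter]
    refine ⟨Finset.mem_univ _, Subtype.ext ?_⟩
    rcases hx with rfl | rfl | rfl
    · simp
    · show a ^ 2 = 1; rw [← ha2]; exact pow_orderOf_eq_one a
    · show b ^ 2 = 1; rw [← hb2]; exact pow_orderOf_eq_one b
  have h3 : ({1, ⟨a, ha⟩, ⟨b, hb⟩} : Finset X).card = 3 := by
    rw [Finset.card_insert_of_notMem, Finset.card_pair]
    · simpa [Subtype.ext_iff] using hne
    · simp [Subtype.ext_iff, (ne_one_of_orderOf_two ha2).symm, (ne_one_of_orderOf_two hb2).symm]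
  have := Finset.card_le_card hsub
  omega

/-- An elementary group of order at least four has two different involutions. -/
theorem exists_two_involutions {A : Subgroup G} (hA : Cfsg.IsElementaryAbelian 2 A) (h4 : 4 ≤ Nat.card A) :
    ∃ a ∈ A, ∃ b ∈ A, orderOf a = 2 ∧ orderOf b = 2 ∧ a ≠ b := by
  classical
  haveI : Fintype A := Fintype.ofFinite _
  have hne : A ≠ ⊥ := fun e => by rw [e, Subgroup.card_bot] at h4; omega
  obtain ⟨a, ha, ha1⟩ := exists_ne_one_of_ne_bot' hne
  by_contra hno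
  push Not at hno
  have hall : ∀ x : A, x ∈ ({1, ⟨a, ha⟩} : Finset A) := fun x => by
    rcases eq_or_ne (x : G) 1 with e | e
    · simp [Subtype.ext_iff, e]
    · have h := hno a ha x x.2 (orderOf_two (elem_sq hA ha) ha1) (orderOf_two (elem_sq hA x.2) e)
      exact Finset.mem_insert.mpr (Or.inr (Finset.mem_singleton.mpr (Subtype.ext h.symm)))
  have := (Finset.card_le_card (fun x (_ : x ∈ (Finset.univ : Finset A)) => hall x)).trans Finset.card_le_two
  rw [Finset.card_univ, ← Nat.card_eq_fintype_card] at this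
  omega
where
  exists_ne_one_of_ne_bot' {A : Subgroup G} (h : A ≠ ⊥) : ∃ a ∈ A, a ≠ 1 := by
    by_contra hno
    push Not at hno
    exact h (A.eq_bot_iff_forall.mpr hno)

/-- No elementary subgroup of order eight over a cyclic subgroup of index two. -/
theorem not_eight_of_cyclic {P X E : Subgroup G} [IsCyclic X] (hX : X.relIndex P ≤ 2) (hE : Eight E)
    (hEP : E ≤ P) : False := by
  obtain ⟨a, ha, b, hb, ha2, hb2, hne⟩ := exists_two_involutions
    (CfsgLib.Signalizer.elementary_of_le hE.1 (inf_le_left : E ⊓ X ≤ E)) (four_le_inf hX hE hEP)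
  exact hne (cyclic_inv_unique ha.2 hb.2 ha2 hb2)

/-- An involution among the powers of a nontrivial 2-element. -/
theorem exists_involution_pow {P : Subgroup G} (hP : IsPGroup 2 P) {x : G} (hx : x ∈ P) (hx1 : x ≠ 1) :
    ∃ w ∈ zpowers x, orderOf w = 2 := by
  haveI : Fact (Nat.Prime 2) := ⟨Nat.prime_two⟩
  obtain ⟨k, hk⟩ := IsPGroup.iff_orderOf.1 hP ⟨x, hx⟩
  rw [Subgroup.orderOf_mk] at hk
  obtain ⟨m, rfl⟩ : ∃ m, k = m + 1 := by
    cases k with
    | zero => exact absurd (orderOf_eq_one_iff.1 (by simpa using hk)) hx1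
    | succ m => exact ⟨m, rfl⟩
  refine ⟨x ^ 2 ^ m, npow_mem_zpowers x _, ?_⟩
  rw [orderOf_pow_of_dvd (pow_ne_zero m two_ne_zero) (hk ▸ pow_dvd_pow 2 (Nat.le_succ m)), hk,
    pow_succ, Nat.mul_div_cancel_left _ (by positivity)]

/-- If `z` is the only involution of `C ⊓ K`, with `|P : K| ≤ 2`, every square in `C` has `z` as a power. -/
theorem mem_zpowers_sq {P C K : Subgroup G} (hP : IsPGroup 2 P) (hC : C ≤ P) (hK : K.relIndex P ≤ 2)
    {z : G} (huniq : ∀ w ∈ C, w ∈ K → orderOf w = 2 → w = z) {c : G} (hc : c ∈ C) (hc2 : c * c ≠ 1) :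
    z ∈ zpowers (c * c) := by
  obtain ⟨w, hw, hw2⟩ := exists_involution_pow hP (P.mul_mem (hC hc) (hC hc)) hc2
  have hmem : zpowers (c * c) ≤ C ⊓ K :=
    zpowers_le.mpr ⟨C.mul_mem hc hc, sq_mem_of_relIndex hK (hC hc)⟩
  rwa [← huniq w (hmem hw).1 (hmem hw).2 hw2]

/-- A four-group which is its own centraliser gives a cyclic subgroup of index two. -/
theorem exists_cyclic_of_elem_cent {P : Subgroup G} (hP : IsPGroup 2 P) {z y : G} (hzP : z ∈ P)
    (hzc : ∀ s ∈ P, s * z = z * s) (hyP : y ∈ P) (hz : orderOf z = 2) (hy : orderOf y = 2) (hne : z ≠ y)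
    (hexp : ∀ c ∈ P ⊓ centralizer ({y} : Set G), c * c = 1)
    (h8 : ¬ ∃ F, Eight F ∧ F ≤ P ⊓ centralizer ({y} : Set G)) :
    ∃ X : Subgroup G, IsCyclic X ∧ X ≤ P ∧ X.relIndex P ≤ 2 := by
  haveI : Fact (Nat.Prime 2) := ⟨Nat.prime_two⟩
  set C := P ⊓ centralizer ({y} : Set G) with hC
  have hel := elem_of_sq hexp
  have hCcard : Nat.card C = 2 ^ 2 := by
    obtain ⟨k, hk⟩ := (CfsgLib.Signalizer.elementary_isPGroup hel).exists_card_eq
    obtain ⟨hB, hB4⟩ := four_of_pair hz hy hne (hzc y hyP).symm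
    have hle : zpowers z ⊔ zpowers y ≤ C := sup_le
      (zpowers_le.mpr ⟨hzP, mem_centralizer_singleton_iff.mpr (hzc y hyP).symm⟩)
      (zpowers_le.mpr ⟨hyP, mem_centralizer_singleton_iff.mpr rfl⟩)
    have h4 := hB4.trans (card_le_of_le hle)
    have hlt : Nat.card C < 8 := lt_of_not_ge fun h => h8 ⟨C, ⟨hel, h⟩, le_rfl⟩
    rw [hk] at h4 hlt ⊢
    have h2 : 2 ≤ k := (Nat.pow_le_pow_iff_right (le_refl 2)).1 h4
    have h3 : k < 3 := (Nat.pow_lt_pow_iff_right (le_refl 2)).1 hlt
    rw [show k = 2 by omega]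
  obtain ⟨n, hn⟩ := hP.exists_card_eq
  have hn2 : 2 ≤ n := (Nat.pow_le_pow_iff_right one_lt_two).1
    (hCcard ▸ hn ▸ card_le_of_le (inf_le_left : C ≤ P))
  have hA : Nat.card (C.subgroupOf P) = 2 ^ 2 := by
    rw [Nat.card_congr (subgroupOfEquivOfLe (inf_le_left : C ≤ P)).toEquiv, hCcard]
  have hcent : centralizer (C.subgroupOf P : Set P) = C.subgroupOf P := by
    ext x
    refine ⟨fun hx => ?_, fun hx => mem_centralizer_iff.mpr fun a ha => ?_⟩
    · have h := mem_centralizer_iff.mp hx (⟨y, hyP⟩ : P)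
        (mem_subgroupOf.mpr ⟨hyP, mem_centralizer_singleton_iff.mpr rfl⟩)
      exact mem_subgroupOf.mpr ⟨x.2, mem_centralizer_singleton_iff.mpr (congrArg Subtype.val h).symm⟩
    · refine Subtype.ext ?_
      exact congrArg (fun w : C => (w : G))
        (hel.1.is_comm.comm (⟨(a : G), mem_subgroupOf.mp ha⟩ : C) ⟨(x : G), mem_subgroupOf.mp hx⟩)
  have key : ∀ X : Subgroup P, IsCyclic X → X.index ≤ 2 →
      ∃ X' : Subgroup G, IsCyclic X' ∧ X' ≤ P ∧ X'.relIndex P ≤ 2 := fun X hX hi => by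
    refine ⟨X.map P.subtype, ?_, map_subtype_le _, ?_⟩
    · exact (equivMapOfInjective X P.subtype P.subtype_injective).isCyclic.1 hX
    · show ((X.map P.subtype).subgroupOf P).index ≤ 2
      rwa [subgroupOf, comap_map_eq_self_of_injective P.subtype_injective]
  rcases hn2.eq_or_lt with h2 | h3
  · refine key (zpowers ⟨z, hzP⟩) inferInstance ?_
    have h := card_mul_index (zpowers (⟨z, hzP⟩ : P))
    rw [Nat.card_zpowers, Subgroup.orderOf_mk, hz, hn, ← h2] at h
    omega
  · obtain ⟨X, hX, hXi⟩ := CfsgLib.Transfer.exists_cyclic_index_two_of_class h3 hn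
      (CfsgLib.Transfer.class_eq_of_self_centralizing n P hn _ hA hcent)
    exact key X hX hXi.le

/-- A dihedral or quasi-dihedral group has a cyclic subgroup of index two. -/
theorem exists_cyclic_of_dihOrQD {P : Subgroup G}
    (h : CfsgLib.TwoGroups.RankTwoTypes.IsDihOrQD P) :
    ∃ X : Subgroup G, IsCyclic X ∧ X ≤ P ∧ X.relIndex P ≤ 2 := by
  obtain ⟨a, ha⟩ : ∃ a : P, 2 * orderOf a = Nat.card P := by
    rcases h with ⟨m, hm, ⟨e⟩⟩ | ⟨n, hn, hcard, a, b, ha, -, -⟩
    · haveI : NeZero m := ⟨by omega⟩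
      refine ⟨e.symm (DihedralGroup.r 1), ?_⟩
      rw [MulEquiv.orderOf_eq, DihedralGroup.orderOf_r_one, Nat.card_congr e.toEquiv,
        DihedralGroup.nat_card]
    · exact ⟨a, by rw [ha, hcard, pow_succ']⟩
  refine ⟨(zpowers a).map P.subtype, ?_, map_subtype_le _, ?_⟩
  · exact (equivMapOfInjective (zpowers a) P.subtype P.subtype_injective).isCyclic.1 inferInstance
  · show (((zpowers a).map P.subtype).subgroupOf P).index ≤ 2
    rw [subgroupOf, comap_map_eq_self_of_injective P.subtype_injective]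
    have h := card_mul_index (zpowers a)
    rw [Nat.card_zpowers, ← ha] at h
    have hp : 0 < orderOf a := orderOf_pos a
    exact Nat.le_of_mul_le_mul_left (by rw [h, mul_comm]) hp

end CfsgLib.PGroups.ZC
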